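import Mathlib
import Groth.Prelude.Def_SGA1
import Groth.Agent.S2921
import Groth.Agent.EtRamLib.Kummer.Basis
import Groth.Agent.RegLoc.Basic
import Groth.Agent.RegLoc.Homological

/-!
# Kummer algebras over regular local rings: the divisors `T_i = 0`
-/

set_option autoImplicit false
set_option linter.style.haveILetI false

universe u

open IsLocalRing

namespace Groth.Agent.AbsAbh

variable (S : Type u) [CommRing S] {r : ℕ} (x : Fin r → S) (n : Fin r → ℕ)

/-- The generators of a Kummer algebra. -/
noncomputable def T (i : Fin r) : SGA1.kummerAlg S x n := Ideal.Quotient.mk _ (MvPolynomial.X i)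

theorem T_pow (i : Fin r) : T S x n i ^ n i = algebraMap S _ (x i) := by
  rw [T, ← map_pow]
  exact Ideal.Quotient.eq.2 (Ideal.subset_span ⟨i, rfl⟩)

theorem induction_kummer {P : SGA1.kummerAlg S x n → Prop} (hC : ∀ a, P (algebraMap S _ a))
    (hadd : ∀ a b, P a → P b → P (a + b)) (hmul : ∀ a i, P a → P (a * T S x n i))
    (y : SGA1.kummerAlg S x n) : P y := by
  obtain ⟨p, rfl⟩ := Ideal.Quotient.mk_surjective y
  induction p using MvPolynomial.induction_on with
  | C a => exact hC a
  | add p q hp hq => rw [map_add]; exact hadd _ _ hp hq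
  | mul_X p i hp => rw [map_mul]; exact hmul _ i hp

theorem finite_free (hn : ∀ i, 1 ≤ n i) :
    Module.Finite S (SGA1.kummerAlg S x n) ∧ Module.Free S (SGA1.kummerAlg S x n) := by
  classical
  haveI : ∀ i, NeZero (n i) := fun i => ⟨Nat.one_le_iff_ne_zero.1 (hn i)⟩
  exact ⟨Module.Finite.of_basis (EtRamLib.Kummer.Basis.kbasis x n),
    Module.Free.of_basis (EtRamLib.Kummer.Basis.kbasis x n)⟩

variable [IsRegularLocalRing S] (hm : ∀ i, x i ∈ maximalIdeal S)
  (hf : LinearIndependent (ResidueField S) (fun i => (maximalIdeal S).toCotangent ⟨x i, hm i⟩))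
  (hn : ∀ i, 1 ≤ n i)

include hm hf hn

theorem isRegularLocalRing : IsRegularLocalRing (SGA1.kummerAlg S x n) :=
  (S2921.result S r x hm hf n hn).1

theorem isDomain : IsDomain (SGA1.kummerAlg S x n) := by
  haveI := isRegularLocalRing S x n hm hf hn
  exact RegLoc.isDomain _

omit hf in
theorem algebraMap_injective : Function.Injective (algebraMap S (SGA1.kummerAlg S x n)) := by
  classical
  obtain ⟨_, _⟩ := finite_free S x n hn
  haveI : ∀ i, NeZero (n i) := fun i => ⟨Nat.one_le_iff_ne_zero.1 (hn i)⟩
  haveI : Nontrivial (SGA1.kummerAlg S x n) :=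
    (EtRamLib.Kummer.Basis.kbasis x n).repr.toEquiv.nontrivial
  exact FaithfulSMul.algebraMap_injective _ _

theorem T_ne_zero (i : Fin r) : T S x n i ≠ 0 := fun h => by
  have h1 := T_pow S x n i
  rw [h, zero_pow (Nat.one_le_iff_ne_zero.1 (hn i))] at h1
  refine hf.ne_zero i ?_
  rw [show (⟨x i, hm i⟩ : maximalIdeal S) = 0 from
    Subtype.ext (algebraMap_injective S x n hm hn (h1.symm.trans (map_zero _).symm)), map_zero]

theorem T_mem_maximalIdeal [IsLocalRing (SGA1.kummerAlg S x n)] (i : Fin r) :
    T S x n i ∈ maximalIdeal (SGA1.kummerAlg S x n) := by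
  obtain ⟨_, _⟩ := finite_free S x n hn
  refine (maximalIdeal.isMaximal _).isPrime.mem_of_pow_mem (n i) ?_
  rw [T_pow]
  have h : (maximalIdeal (SGA1.kummerAlg S x n)).comap (algebraMap S _) = maximalIdeal S :=
    IsLocalRing.eq_maximalIdeal (Ideal.isMaximal_comap_of_isIntegral_of_isMaximal _)
  exact (SetLike.ext_iff.1 h (x i)).2 (hm i)

/-- The divisor `T_i = 0` is irreducible and reduced. -/
theorem isPrime_T (i : Fin r) : (Ideal.span {T S x n i}).IsPrime := by
  classical
  haveI := isRegularLocalRing S x n hm hf hn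
  obtain ⟨_, _⟩ := finite_free S x n hn
  haveI := isDomain S x n hm hf hn
  let K := SGA1.kummerAlg S x n
  obtain ⟨s, g, hg, hd⟩ := S2921.exists_generators S x hm hf
  let J : Ideal K := Ideal.span (Set.range (T S x n) ∪ Set.range fun j => algebraMap S K (g j))
  have hmS : (maximalIdeal K).comap (algebraMap S K) = maximalIdeal S :=
    IsLocalRing.eq_maximalIdeal (Ideal.isMaximal_comap_of_isIntegral_of_isMaximal _)
  have hmJ : maximalIdeal K ≤ J := fun y hy => by
    have key : ∀ z : K, ∃ c : S, z - algebraMap S K c ∈ J := by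
      refine induction_kummer S x n (fun a => ⟨a, (sub_self (algebraMap S K a)).symm ▸ J.zero_mem⟩) ?_ ?_
      · rintro a b ⟨c, hc⟩ ⟨c', hc'⟩
        exact ⟨c + c', by rw [map_add, add_sub_add_comm]; exact J.add_mem hc hc'⟩
      · rintro a j -
        exact ⟨0, by rw [map_zero, sub_zero]; exact J.mul_mem_left _ (Ideal.subset_span (Or.inl ⟨j, rfl⟩))⟩
    have hJle : J ≤ maximalIdeal K := Ideal.span_le.2 (by
      rintro _ (⟨j, rfl⟩ | ⟨j, rfl⟩)
      · exact T_mem_maximalIdeal S x n hm hf hn j
      · exact (SetLike.ext_iff.1 hmS (g j)).2 (hg ▸ Ideal.subset_span (Or.inr ⟨j, rfl⟩)))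
    obtain ⟨c, hc⟩ := key y
    have hc' : c ∈ maximalIdeal S := by
      rw [← hmS, Ideal.mem_comap]
      have h := sub_mem hy (hJle hc)
      rwa [sub_sub_cancel] at h
    rw [← sub_add_cancel y (algebraMap S K c)]
    refine J.add_mem hc ?_
    have hle : (maximalIdeal S).map (algebraMap S K) ≤ J := by
      rw [hg, Ideal.map_span, Ideal.span_le]
      rintro _ ⟨_, ⟨j, rfl⟩ | ⟨j, rfl⟩, rfl⟩
      · rw [SetLike.mem_coe, ← T_pow]
        exact J.pow_mem_of_mem (Ideal.subset_span (Or.inl ⟨j, rfl⟩)) _ (hn j)
      · exact Ideal.subset_span (Or.inr ⟨j, rfl⟩)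
    exact hle (Ideal.mem_map_of_mem _ hc')
  have hdim : ringKrullDim K = ((r + s : ℕ) : WithBot ℕ∞) := by
    haveI : FaithfulSMul S K :=
      (faithfulSMul_iff_algebraMap_injective S K).2 (algebraMap_injective S x n hm hn)
    rw [VarDim.ringKrullDim_eq_of_isIntegral (R := S) (S := K), ← hd]
  have hsq : T S x n i ∉ maximalIdeal K ^ 2 := fun h2 => by
    let gens : Finset K := ((Finset.univ.erase i).image (T S x n)) ∪
      (Finset.univ.image fun j => algebraMap S K (g j))
    have hgm : Ideal.span (gens : Set K) ≤ maximalIdeal K := Ideal.span_le.2 fun z hz => by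
      simp only [gens, Finset.coe_union, Finset.coe_image, Set.mem_union, Set.mem_image] at hz
      rcases hz with ⟨j, -, rfl⟩ | ⟨j, -, rfl⟩
      · exact T_mem_maximalIdeal S x n hm hf hn j
      · exact (SetLike.ext_iff.1 hmS (g j)).2 (hg ▸ Ideal.subset_span (Or.inr ⟨j, rfl⟩))
    have heq : Ideal.span (gens : Set K) = maximalIdeal K := by
      refine RegLoc.eq_maximalIdeal_of_le_sup_sq hgm (hmJ.trans (Ideal.span_le.2 ?_))
      rintro _ (⟨j, rfl⟩ | ⟨j, rfl⟩)
      · rcases eq_or_ne j i with rfl | hj
        · exact Submodule.mem_sup_right h2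
        · exact Submodule.mem_sup_left (Ideal.subset_span (Finset.mem_union_left _
            (Finset.mem_image_of_mem _ (Finset.mem_erase.2 ⟨hj, Finset.mem_univ _⟩))))
      · exact Submodule.mem_sup_left (Ideal.subset_span (Finset.mem_union_right _
          (Finset.mem_image_of_mem _ (Finset.mem_univ _))))
    have h1 := RegLoc.spanFinrank_eq_dim hdim
    have h3 : (maximalIdeal K).spanFinrank ≤ gens.card := by
      rw [← heq]
      exact (Submodule.spanFinrank_span_le_ncard_of_finite (Finset.finite_toSet _)).trans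
        (Set.ncard_coe_finset _).le
    have h4 : gens.card < r + s := by
      refine (Finset.card_union_le _ _).trans_lt ?_
      have h5 : ((Finset.univ.erase i).image (T S x n)).card < r := by
        refine Finset.card_image_le.trans_lt ?_
        rw [Finset.card_erase_of_mem (Finset.mem_univ _), Finset.card_univ, Fintype.card_fin]
        exact Nat.sub_lt (Fin.pos i) one_pos
      have h6 : (Finset.univ.image fun j => algebraMap S K (g j)).card ≤ s :=
        Finset.card_image_le.trans (by simp)
      omega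
    omega
  obtain ⟨hreg, -⟩ :=
    RegLoc.isRegularLocalRing_quotient_span_singleton (T_mem_maximalIdeal S x n hm hf hn i) hsq hdim
  haveI := hreg
  haveI := RegLoc.isDomain (K ⧸ Ideal.span {T S x n i})
  exact (Ideal.Quotient.isDomain_iff_prime _).1 inferInstance

omit hf hn in
theorem T_mem_of_x_mem (i : Fin r) (y : Ideal (SGA1.kummerAlg S x n)) [y.IsPrime]
    (h : algebraMap S _ (x i) ∈ y) : T S x n i ∈ y :=
  ‹y.IsPrime›.mem_of_pow_mem (n i) (by rwa [T_pow])

/-- A prime of height one containing `T_i` is `(T_i)`. -/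
theorem eq_span_T (i : Fin r) (y : Ideal (SGA1.kummerAlg S x n)) [y.IsPrime] (hy : y.height = 1)
    (hi : T S x n i ∈ y) : y = Ideal.span {T S x n i} := by
  haveI := isRegularLocalRing S x n hm hf hn
  haveI := isDomain S x n hm hf hn
  haveI := isPrime_T S x n hm hf hn i
  by_contra hne
  have hlt : Ideal.span {T S x n i} < y := lt_of_le_of_ne ((Ideal.span_singleton_le_iff_mem _).2 hi) (Ne.symm hne)
  have h0 : (⊥ : Ideal (SGA1.kummerAlg S x n)) < Ideal.span {T S x n i} := by
    rw [bot_lt_iff_ne_bot, Ne, Ideal.span_singleton_eq_bot]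
    exact T_ne_zero S x n hm hf hn i
  have h1 := Ideal.height_strict_mono_of_isPrime h0
  have h2 := Ideal.height_strict_mono_of_isPrime hlt
  rw [hy] at h2
  rw [Ideal.height_bot] at h1
  exact absurd (ENat.lt_one_iff_eq_zero.1 h2) h1.ne'

/-- The local ring at `T_i = 0` is a discrete valuation ring with uniformizer `T_i`. -/
theorem isDVR_T (i : Fin r) [(Ideal.span {T S x n i}).IsPrime] :
    ∃ _ : IsDomain (Localization.AtPrime (Ideal.span {T S x n i})),
      IsDiscreteValuationRing (Localization.AtPrime (Ideal.span {T S x n i})) ∧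
      maximalIdeal (Localization.AtPrime (Ideal.span {T S x n i})) =
        Ideal.span {algebraMap _ (Localization.AtPrime (Ideal.span {T S x n i})) (T S x n i)} := by
  haveI := isRegularLocalRing S x n hm hf hn
  haveI := isDomain S x n hm hf hn
  let P := Ideal.span {T S x n i}
  haveI hd : IsDomain (Localization.AtPrime P) := IsLocalization.isDomain_localization P.primeCompl_le_nonZeroDivisors
  haveI : IsNoetherianRing (Localization.AtPrime P) := IsLocalization.isNoetherianRing P.primeCompl _ inferInstance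
  have hmax : maximalIdeal (Localization.AtPrime P) = Ideal.span {algebraMap _ _ (T S x n i)} := by
    rw [← Localization.AtPrime.map_eq_maximalIdeal (I := P), Ideal.map_span, Set.image_singleton]
  have hne : algebraMap _ (Localization.AtPrime P) (T S x n i) ≠ 0 :=
    (map_ne_zero_iff _ (IsLocalization.injective (Localization.AtPrime P)
      P.primeCompl_le_nonZeroDivisors)).2 (T_ne_zero S x n hm hf hn i)
  have hnf : ¬ IsField (Localization.AtPrime P) := fun h => by
    have hb := IsLocalRing.isField_iff_maximalIdeal_eq.1 h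
    rw [hmax, Ideal.span_singleton_eq_bot] at hb
    exact hne hb
  have hp : (maximalIdeal (Localization.AtPrime P)).IsPrincipal := ⟨_, hmax⟩
  haveI : IsDiscreteValuationRing (Localization.AtPrime P) :=
    ((IsDiscreteValuationRing.TFAE (Localization.AtPrime P) hnf).out 4 0).1 hp
  exact ⟨hd, inferInstance, hmax⟩

omit hn in
/-- `(T_i)` contracts to `(f_i)` along flat maps. -/
theorem comap_T {A : Type u} [CommRing A] (hn : ∀ i, 1 ≤ n i) [Algebra A (SGA1.kummerAlg S x n)]
    [Algebra.HasGoingDown A (SGA1.kummerAlg S x n)] (f : A) [(Ideal.span {f}).IsPrime] (i : Fin r)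
    (hfx : algebraMap A (SGA1.kummerAlg S x n) f = algebraMap S _ (x i)) :
    (Ideal.span {T S x n i}).comap (algebraMap A _) = Ideal.span {f} := by
  haveI := isPrime_T S x n hm hf hn i
  haveI := isDomain S x n hm hf hn
  let P := Ideal.span {T S x n i}
  have hle : Ideal.span {f} ≤ P.comap (algebraMap A _) := by
    rw [Ideal.span_singleton_le_iff_mem, Ideal.mem_comap, hfx, ← T_pow]
    exact Ideal.pow_mem_of_mem _ (Ideal.mem_span_singleton_self _) _ (hn i)
  haveI : P.LiesOver (P.comap (algebraMap A _)) := ⟨rfl⟩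
  obtain ⟨Q, hQ, hQp, hQo⟩ := Ideal.exists_ideal_le_liesOver_of_le
    (q := P.comap (algebraMap A _)) P hle
  have hT : T S x n i ∈ Q := by
    refine hQp.mem_of_pow_mem (n i) ?_
    rw [T_pow, ← hfx]
    have h := Ideal.mem_span_singleton_self f
    rw [hQo.over] at h
    exact h
  have : Q = P := le_antisymm hQ ((Ideal.span_singleton_le_iff_mem _).2 hT)
  subst this
  exact hQo.over.symm

end Groth.Agent.AbsAbh
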