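import Mathlib
import Groth.Prelude.Def_SGA1
import Groth.Agent.FEtCat.Basic
import Groth.Agent.AbsAbh.Kummer

/-!
# The cover attached to an algebra finite étale away from a divisor; points of Kummer divisors
-/

set_option autoImplicit false
set_option linter.style.haveILetI false
set_option maxHeartbeats 800000

universe u

open CategoryTheory AlgebraicGeometry IsLocalRing

namespace Groth.Agent.AbsAbh

/-- An étale algebra in which `G` is a unit and which is integral over `A[1/G]` is a cover of `D(G)`. -/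
theorem exists_cover {A : Type u} [CommRing A] (G : A) (C : Type u) [CommRing C] [Algebra A C]
    [Algebra.Etale A C] (hG : IsUnit (algebraMap A C G))
    (hint : ∀ c : C, ∃ k : ℕ, IsIntegral A (algebraMap A C G ^ k * c)) :
    ∃ (Y : FEt.Cat ((SGA1.specBasicOpen A G) : Scheme.{u})) (e : Y.left ≅ Spec (CommRingCat.of C)),
      e.hom ≫ Spec.map (CommRingCat.ofHom (algebraMap A C)) = Y.hom ≫ (SGA1.specBasicOpen A G).ι := by
  let AA := Localization.Away G
  letI : Algebra AA C := (IsLocalization.Away.lift (S := AA) G hG).toAlgebra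
  haveI : IsScalarTower A AA C := IsScalarTower.of_algebraMap_eq fun a => by
    rw [RingHom.algebraMap_toAlgebra, IsLocalization.Away.lift_eq]
  haveI : Algebra.Etale A AA := Algebra.Etale.of_isLocalizationAway G
  haveI : Algebra.Etale AA C := Algebra.Etale.of_restrictScalars A AA C
  haveI : Algebra.IsIntegral AA C := ⟨fun c => by
    obtain ⟨k, hk⟩ := hint c
    obtain ⟨u, hu⟩ := (IsLocalization.Away.algebraMap_isUnit G : IsUnit (algebraMap A AA G)).pow k
    have h2 : c = (↑u⁻¹ : AA) • (algebraMap A C G ^ k * c) := by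
      rw [← map_pow, IsScalarTower.algebraMap_apply A AA C, map_pow, ← hu, ← Algebra.smul_def, smul_smul,
        Units.inv_mul, one_smul]
    rw [h2]
    exact hk.tower_top.smul _⟩
  haveI : Module.Finite AA C := Algebra.IsIntegral.finite
  let U : (Spec (CommRingCat.of A)).Opens := SGA1.specBasicOpen A G
  let j : Spec (CommRingCat.of AA) ⟶ Spec (CommRingCat.of A) :=
    Spec.map (CommRingCat.ofHom (algebraMap A AA))
  haveI : IsOpenImmersion j := IsOpenImmersion.of_isLocalization G
  have hrange : Set.range j = Set.range U.ι := by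
    rw [Scheme.Opens.range_ι]
    exact PrimeSpectrum.localization_away_comap_range AA G
  let w := IsOpenImmersion.isoOfRangeEq j U.ι hrange
  have hw : w.hom ≫ U.ι = j := IsOpenImmersion.isoOfRangeEq_hom_fac _ _ _
  let l : Spec (CommRingCat.of C) ⟶ Spec (CommRingCat.of AA) := Spec.map (CommRingCat.ofHom (algebraMap AA C))
  haveI : IsFinite l := (IsFinite.SpecMap_iff _).2 (RingHom.finite_algebraMap.2 ‹_›)
  haveI : Etale l := (HasRingHomProperty.Spec_iff (P := @Etale)).2 (RingHom.etale_algebraMap.2 ‹_›)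
  refine ⟨FEtCat.Basic.mk (l ≫ w.hom), Iso.refl _, ?_⟩
  change 𝟙 _ ≫ _ = (l ≫ w.hom) ≫ U.ι
  rw [Category.id_comp, Category.assoc, hw, ← Spec.map_comp]
  congr 1
  ext a
  exact IsScalarTower.algebraMap_apply A AA C a

variable {A : Type u} [CommRing A] {r : ℕ} (f : Fin r → A) (S : Type u) [CommRing S] [Algebra A S]
  (n : Fin r → ℕ)

/-- A prime containing the image of `f_1 ⋯ f_r` contains some `T_i`. -/
theorem exists_T_mem (y : Ideal (SGA1.kummerAlg S (fun i => algebraMap A S (f i)) n)) [y.IsPrime]
    (h : algebraMap A (SGA1.kummerAlg S (fun i => algebraMap A S (f i)) n) (∏ i, f i) ∈ y) :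
    ∃ i, T S (fun i => algebraMap A S (f i)) n i ∈ y := by
  rw [map_prod] at h
  obtain ⟨i, -, hi⟩ := (‹y.IsPrime›.prod_mem_iff).1 h
  exact ⟨i, ‹y.IsPrime›.mem_of_pow_mem (n i) (by rw [T_pow]; exact hi)⟩

end Groth.Agent.AbsAbh
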