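import Mathlib
import Groth.Prelude.Def_EtRam
import Groth.Agent.EtRamLib.ValTower
import Groth.Agent.EtRamLib.Abhyankar
import Groth.Agent.EtRamLib.WildFixField

/-!
# Unramified extensions of discretely valued fields

* `etale_integralClosure`: an unramified extension has étale integral closure.
* `isUnramifiedExt_compositum`: Abhyankar's lemma for a compositum with a field containing a root
  of a uniformizer.
* `finite_dominating`: finitely many valuation rings dominate the base.
-/

set_option autoImplicit false
set_option linter.style.haveILetI false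

universe u

open IsLocalRing

namespace Groth.Agent.AbsAbh

open EtRamLib

/-- The centre of a valuation ring dominating `R` is a maximal ideal of the integral closure. -/
theorem exists_valuation_of_prime (R K L : Type u) [CommRing R] [IsDomain R] [IsDiscreteValuationRing R]
    [Field K] [Algebra R K] [IsFractionRing R K] [Field L] [Algebra K L] [Algebra R L]
    [IsScalarTower R K L] [FiniteDimensional K L] (P : Ideal (integralClosure R L)) [P.IsMaximal] :
    ∃ V : ValuationSubring L, EtRam.Dominates R ((algebraMap K L).comp (algebraMap R K)) V ∧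
      ∀ b : integralClosure R L, b ∈ P → V.valuation (b : L) < 1 := by
  let B := integralClosure R L
  let f : B →+* L := B.val.toRingHom
  have hf : Function.Injective f := Subtype.val_injective
  have hne : P.map f.rangeRestrict ≠ ⊤ := fun htop => by
    refine (inferInstance : P.IsPrime).ne_top ?_
    rw [← Ideal.comap_map_of_bijective f.rangeRestrict
      ⟨fun a b h => hf (congrArg (fun t : f.range => (t : L)) h), f.rangeRestrict_surjective⟩ (I := P), htop, Ideal.comap_top]
  obtain ⟨V, hle, hnu⟩ := Ideal.image_subset_nonunits_valuationSubring (A := f.range) (P.map f.rangeRestrict) hne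
  have hP : ∀ b : B, b ∈ P → V.valuation (b : L) < 1 := fun b hb =>
    (ValuationSubring.mem_nonunits_iff V).1 (hnu ⟨f.rangeRestrict b, Ideal.mem_map_of_mem _ hb, rfl⟩)
  have hmem : ∀ a : R, algebraMap R L a ∈ V := fun a => hle ⟨algebraMap R B a, rfl⟩
  haveI : (P.comap (algebraMap R B)).IsMaximal :=
    Ideal.isMaximal_comap_of_isIntegral_of_isMaximal P
  refine ⟨V, ⟨fun a => by rw [RingHom.comp_apply, ← IsScalarTower.algebraMap_apply]; exact hmem a,
    fun a ha => ?_⟩, hP⟩
  rw [RingHom.comp_apply, ← IsScalarTower.algebraMap_apply]
  refine hP (algebraMap R B a) ?_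
  rw [← IsLocalRing.eq_maximalIdeal (inferInstance : (P.comap (algebraMap R B)).IsMaximal)] at ha
  exact ha

/-- The integral closure in an unramified extension is étale. -/
theorem etale_integralClosure (R K L : Type u) [CommRing R] [IsDomain R] [IsDiscreteValuationRing R]
    [Field K] [Algebra R K] [IsFractionRing R K] [Field L] [Algebra K L] [Algebra R L]
    [IsScalarTower R K L] [FiniteDimensional K L] [Algebra.IsSeparable K L]
    (h : EtRam.IsUnramifiedExt R ((algebraMap K L).comp (algebraMap R K))) :
    Algebra.Etale R (integralClosure R L) ∧ Module.Finite R (integralClosure R L) := by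
  classical
  obtain rfl : ‹Algebra R L› = ((algebraMap K L).comp (algebraMap R K)).toAlgebra :=
    Algebra.algebra_ext _ _ fun a => IsScalarTower.algebraMap_apply R K L a
  letI : Algebra R L := ((algebraMap K L).comp (algebraMap R K)).toAlgebra
  let B := integralClosure R L
  haveI : Module.Finite R B := IsIntegralClosure.finite R K L B
  haveI : IsFractionRing B L := integralClosure.isFractionRing_of_finite_extension K L
  haveI : IsDedekindDomain B := IsIntegralClosure.isDedekindDomain R K L B
  haveI : Module.IsTorsionFree R B := Module.isTorsionFree_iff_algebraMap_injective.2 fun a b hab =>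
    IsFractionRing.injective R K ((algebraMap K L).injective (congrArg Subtype.val hab))
  haveI : Module.Flat R B := inferInstance
  haveI : Algebra.FinitePresentation R B := Algebra.FinitePresentation.of_finiteType.1 inferInstance
  haveI : Algebra.FormallyUnramified R B := by
    rw [← Algebra.unramifiedLocus_eq_univ_iff, Set.eq_univ_iff_forall]
    intro P
    change Algebra.FormallyUnramified R (Localization.AtPrime P.asIdeal)
    by_cases hP : P.asIdeal = ⊥
    · haveI : IsLocalization.AtPrime L P.asIdeal := by
        have h1 : P.asIdeal.primeCompl = nonZeroDivisors B := by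
          ext z
          change z ∉ P.asIdeal ↔ _
          rw [hP, Ideal.mem_bot, mem_nonZeroDivisors_iff_ne_zero]
        change IsLocalization P.asIdeal.primeCompl L
        rw [h1]
        exact ‹IsFractionRing B L›
      haveI : Algebra.FormallyUnramified R K :=
        Algebra.FormallyUnramified.of_isLocalization (nonZeroDivisors R)
      haveI : Algebra.FormallyUnramified K L := Algebra.FormallyUnramified.of_isSeparable K L
      haveI : Algebra.FormallyUnramified R L := Algebra.FormallyUnramified.comp R K L
      exact Algebra.FormallyUnramified.of_equiv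
        ((IsLocalization.algEquiv P.asIdeal.primeCompl L (Localization.AtPrime P.asIdeal)).restrictScalars R)
    haveI : P.asIdeal.IsMaximal := P.2.isMaximal_of_ne_bot hP
    obtain ⟨V, hV, hVP⟩ := exists_valuation_of_prime R K L P.asIdeal
    have hBV := ValTower.exists_algebra_integralClosure R K L V hV
    letI : Algebra B V := ((B.val).toRingHom.codRestrict V hBV).toAlgebra
    obtain ⟨-, hloc⟩ := ValTower.isLocalization_of_dominates R K L V hV hBV
    have hcentre : (maximalIdeal V).comap (algebraMap B V) = P.asIdeal := by
      refine ((inferInstance : P.asIdeal.IsMaximal).eq_of_le ?_ fun b hb => ?_).symm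
      · exact Ideal.comap_ne_top _ (maximalIdeal.isMaximal V).ne_top
      · exact (V.valuation_lt_one_iff _).2 (hVP b hb)
    haveI : IsLocalization.AtPrime V P.asIdeal := by
      have h1 : P.asIdeal.primeCompl = ((maximalIdeal V).comap (algebraMap B V)).primeCompl :=
        Submonoid.ext fun z => not_congr (SetLike.ext_iff.1 hcentre z).symm
      change IsLocalization P.asIdeal.primeCompl V
      rw [h1]
      exact hloc
    letI : Algebra R V := (RingHom.codRestrict ((algebraMap K L).comp (algebraMap R K)) V hV.1).toAlgebra
    haveI : IsScalarTower R B V := IsScalarTower.of_algebraMap_eq fun a => Subtype.ext rfl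
    haveI : IsLocalHom (algebraMap R V) := ValTower.isLocalHom_of_dominates V hV
    haveI : Algebra.EssFiniteType B V := Algebra.EssFiniteType.of_isLocalization V P.asIdeal.primeCompl
    haveI : Algebra.EssFiniteType R V := Algebra.EssFiniteType.comp R B V
    obtain ⟨hw, hs⟩ := h V hV
    haveI : Algebra.FormallyUnramified R V := Algebra.FormallyUnramified.iff_map_maximalIdeal_eq.2 ⟨hs, hw⟩
    exact Algebra.FormallyUnramified.of_equiv
      ((IsLocalization.algEquiv P.asIdeal.primeCompl V (Localization.AtPrime P.asIdeal)).restrictScalars R)
  exact ⟨Algebra.Etale.of_formallyUnramified_of_flat, inferInstance⟩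

/-- Only finitely many valuation rings of a finite separable extension dominate the base. -/
theorem finite_dominating (R K L : Type u) [CommRing R] [IsDomain R] [IsDiscreteValuationRing R]
    [Field K] [Algebra R K] [IsFractionRing R K] [Field L] [Algebra K L] [FiniteDimensional K L]
    [Algebra.IsSeparable K L] :
    Finite {V : ValuationSubring L // EtRam.Dominates R ((algebraMap K L).comp (algebraMap R K)) V} := by
  classical
  letI : Algebra R L := ((algebraMap K L).comp (algebraMap R K)).toAlgebra
  haveI : IsScalarTower R K L := IsScalarTower.of_algebraMap_eq fun _ => rfl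
  let B := integralClosure R L
  haveI : IsDedekindDomain B := IsIntegralClosure.isDedekindDomain R K L B
  haveI : Module.Finite R B := IsIntegralClosure.finite R K L B
  haveI : Module.IsTorsionFree R B := Module.isTorsionFree_iff_algebraMap_injective.2 fun a b hab =>
    IsFractionRing.injective R K ((algebraMap K L).injective (congrArg Subtype.val hab))
  let ψ : ∀ V : {V : ValuationSubring L // EtRam.Dominates R ((algebraMap K L).comp (algebraMap R K)) V},
      B →+* V.1 := fun V => (B.val).toRingHom.codRestrict V.1
        (ValTower.exists_algebra_integralClosure R K L V.1 V.2)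
  have hfin : ((maximalIdeal R).primesOver B).Finite := IsDedekindDomain.primesOver_finite _ _
  haveI := hfin.to_subtype
  refine Finite.of_injective (fun V => (⟨(maximalIdeal V.1).comap (ψ V), inferInstance, ⟨?_⟩⟩ :
    (maximalIdeal R).primesOver B)) fun V V' heq => ?_
  · refine le_antisymm (fun a ha => ?_) (IsLocalRing.le_maximalIdeal ?_)
    · exact (V.1.valuation_lt_one_iff _).2 (V.2.2 a ha)
    · exact Ideal.comap_ne_top _ (Ideal.comap_ne_top _ (maximalIdeal.isMaximal _).ne_top)
  · have heq' : (maximalIdeal V.1).comap (ψ V) = (maximalIdeal V'.1).comap (ψ V') := congrArg Subtype.val heq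
    have key : ∀ W W' : {V : ValuationSubring L // EtRam.Dominates R ((algebraMap K L).comp (algebraMap R K)) V},
        (maximalIdeal W.1).comap (ψ W) = (maximalIdeal W'.1).comap (ψ W') → ∀ z ∈ W.1, z ∈ W'.1 := by
      intro W W' hWW z hz
      letI : Algebra B W.1 := (ψ W).toAlgebra
      obtain ⟨-, hloc⟩ := ValTower.isLocalization_of_dominates R K L W.1 W.2
        (ValTower.exists_algebra_integralClosure R K L W.1 W.2)
      haveI : IsLocalization ((maximalIdeal W.1).comap (algebraMap B W.1)).primeCompl W.1 := hloc
      obtain ⟨⟨b, s⟩, hbs⟩ :=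
        IsLocalization.surj ((maximalIdeal W.1).comap (algebraMap B W.1)).primeCompl (⟨z, hz⟩ : W.1)
      have hs : IsUnit (ψ W' s) := by
        by_contra hu
        exact s.2 ((Ideal.mem_comap).2 ((SetLike.ext_iff.1 hWW s.1).2 hu))
      obtain ⟨v, hv⟩ := hs
      have hz' : z * (s : B) = (b : L) := congrArg Subtype.val hbs
      have h1 : ((ψ W' s : W'.1) : L) * ((↑v⁻¹ : W'.1) : L) = 1 := by
        rw [← hv]; exact congrArg Subtype.val v.mul_inv
      have hz2 : z = (b : L) * ((↑v⁻¹ : W'.1) : L) := by
        rw [← hz', mul_assoc]
        exact (mul_one z).symm.trans (congrArg (z * ·) h1.symm)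
      rw [hz2]
      exact mul_mem (ValTower.exists_algebra_integralClosure R K L W'.1 W'.2 b) (↑v⁻¹ : W'.1).2
    exact Subtype.ext (SetLike.ext fun z => ⟨key V V' heq' z, key V' V heq'.symm z⟩)

/-- Abhyankar's lemma for a compositum: if `K'` contains an `e`-th root of a uniformizer of `R` and
all ramification indices of the tame extension `L` divide `e`, then `L K'` is unramified over `R'`. -/
theorem isUnramifiedExt_compositum (R K L : Type u) [CommRing R] [IsDomain R] [IsDiscreteValuationRing R]
    [Field K] [Algebra R K] [IsFractionRing R K] [Field L] [Algebra K L] [FiniteDimensional K L]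
    [Algebra.IsSeparable K L] (π : R) (hπ : Irreducible π)
    (h : EtRam.IsTamelyRamified R ((algebraMap K L).comp (algebraMap R K))) (e : ℕ)
    (hdvd : ∀ (V : ValuationSubring L) (hV : EtRam.Dominates R ((algebraMap K L).comp (algebraMap R K)) V),
      letI : Algebra R V := (RingHom.codRestrict ((algebraMap K L).comp (algebraMap R K)) V hV.1).toAlgebra
      Ideal.ramificationIdx' (maximalIdeal R) (maximalIdeal V) ∣ e)
    (R' K' L' : Type u) [CommRing R'] [IsDomain R'] [IsDiscreteValuationRing R']
    [Field K'] [Algebra R' K'] [IsFractionRing R' K'] [Field L'] [Algebra K' L'] [FiniteDimensional K' L']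
    [Algebra.IsSeparable K' L']
    [Algebra K K'] (ι : R →+* R') [IsLocalHom ι]
    (hι : ∀ a, algebraMap K K' (algebraMap R K a) = algebraMap R' K' (ι a))
    (r : K') (hr : r ^ e = algebraMap K K' (algebraMap R K π))
    (g : L →+* L') (hg : ∀ c : K, g (algebraMap K L c) = algebraMap K' L' (algebraMap K K' c))
    (hgen : Subfield.closure (Set.range g ∪ Set.range (algebraMap K' L')) = ⊤) :
    EtRam.IsUnramifiedExt R' ((algebraMap K' L').comp (algebraMap R' K')) := by
  classical
  let Ω := SeparableClosure K'
  let j : L' →ₐ[K'] Ω := IsSepClosed.lift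
  haveI : FiniteDimensional K' j.fieldRange := Module.Finite.equiv (AlgEquiv.ofInjectiveField j).toLinearEquiv
  let N : IntermediateField K' Ω := IntermediateField.normalClosure K' j.fieldRange Ω
  haveI : IsGalois K' N := { }
  let j₀ : L' →ₐ[K'] N := AlgHom.codRestrict j N.toSubalgebra fun x => (j.fieldRange).le_normalClosure ⟨x, rfl⟩
  letI : Algebra L' N := j₀.toRingHom.toAlgebra
  haveI : IsScalarTower K' L' N := IsScalarTower.of_algebraMap_eq fun a => (j₀.commutes a).symm
  letI : Algebra K N := ((algebraMap K' N).comp (algebraMap K K')).toAlgebra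
  letI : Algebra L N := ((algebraMap L' N).comp g).toAlgebra
  haveI : IsScalarTower K L N := IsScalarTower.of_algebraMap_eq fun c => by
    change algebraMap K' N (algebraMap K K' c) = algebraMap L' N (g (algebraMap K L c))
    rw [hg]
    exact IsScalarTower.algebraMap_apply K' L' N _
  refine WildFixField.isUnramifiedExt_of_fixed (N := N) L' fun W hW σ hσ x => ?_
  haveI : IsDiscreteValuationRing W := ValTower.isDiscreteValuationRing_of_dominates R' K' N W hW
  have hWR : EtRam.Dominates R ((algebraMap K N).comp (algebraMap R K)) W := by
    have hc : (algebraMap K N).comp (algebraMap R K) = ((algebraMap K' N).comp (algebraMap R' K')).comp ι :=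
      RingHom.ext fun a => congrArg (algebraMap K' N) (hι a)
    rw [hc]
    exact ⟨fun a => hW.1 (ι a), fun a ha => hW.2 (ι a) (map_nonunit ι a ha)⟩
  have hL : ∀ y : L, σ (algebraMap L N y) = algebraMap L N y := fun y =>
    Abhyankar.fix_of_root L N π hπ h W hWR (σ : N →+* N) (fun c => σ.commutes (algebraMap K K' c)) hσ
      (algebraMap K' N r) e (by rw [← map_pow, hr]; rfl) (σ.commutes r) hdvd y
  have hx : x ∈ (⊤ : Subfield L') := Subfield.mem_top x
  rw [← hgen] at hx
  induction hx using Subfield.closure_induction with
  | mem z hz =>
    rcases hz with ⟨y, rfl⟩ | ⟨c, rfl⟩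
    · exact hL y
    · rw [← IsScalarTower.algebraMap_apply]; exact σ.commutes c
  | one => rw [map_one, map_one]
  | add a b _ _ ha hb => rw [map_add, map_add, ha, hb]
  | neg a _ ha => rw [map_neg, map_neg, ha]
  | inv a _ ha => rw [map_inv₀, map_inv₀, ha]
  | mul a b _ _ ha hb => rw [map_mul, map_mul, ha, hb]

end Groth.Agent.AbsAbh
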