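import Mathlib
import Groth.Prelude.Def_SGA1
import Groth.Agent.AbsAbh.Kummer
import Groth.Agent.AbsAbh.Unram
import Groth.Agent.EtStruct.Compositum
import Groth.Agent.Hens.StrictAtPrime

/-!
# Tame algebras over a regular local ring pulled back to Kummer algebras
-/

set_option autoImplicit false
set_option linter.style.haveILetI false
set_option maxHeartbeats 800000

universe u

open IsLocalRing
open scoped TensorProduct

namespace Groth.Agent.AbsAbh

/-- `e` is a common multiple of all ramification indices of `C` along the prime `(f₀)`. -/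
def DvdAt {A : Type u} [CommRing A] (C : Type u) [CommRing C] [Algebra A C] (f₀ : A)
    [(Ideal.span {f₀}).IsPrime] (e : ℕ) : Prop :=
  ∀ (q : Ideal C) [q.IsPrime] (hq : Ideal.comap (algebraMap A C) q = ⊥) (V : ValuationSubring q.ResidueField)
    (hV : EtRam.Dominates (Localization.AtPrime (Ideal.span {f₀}))
      (SGA1.genericResidueMap (algebraMap A C) (Ideal.span {f₀}) q hq) V),
    letI : Algebra (Localization.AtPrime (Ideal.span {f₀})) V :=
      (RingHom.codRestrict (SGA1.genericResidueMap (algebraMap A C) (Ideal.span {f₀}) q hq) V hV.1).toAlgebra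
    Ideal.ramificationIdx' (maximalIdeal (Localization.AtPrime (Ideal.span {f₀}))) (maximalIdeal V) ∣ e

section Generic

variable {A : Type u} [CommRing A] [IsDomain A] {C : Type u} [CommRing C] [Algebra A C]

theorem injective_residue_comp (q : Ideal C) [q.IsPrime] (hq : Ideal.comap (algebraMap A C) q = ⊥) :
    Function.Injective ((algebraMap C q.ResidueField).comp (algebraMap A C)) := by
  rw [RingHom.injective_iff_ker_eq_bot, ← RingHom.comap_ker, Ideal.ker_algebraMap_residueField]
  exact hq

/-- The fraction field maps to the residue field of a generic point. -/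
noncomputable def genMap (K : Type u) [Field K] [Algebra A K] [IsFractionRing A K] (q : Ideal C) [q.IsPrime]
    (hq : Ideal.comap (algebraMap A C) q = ⊥) : K →+* q.ResidueField :=
  IsFractionRing.lift (injective_residue_comp q hq)

theorem genMap_algebraMap (K : Type u) [Field K] [Algebra A K] [IsFractionRing A K] (q : Ideal C) [q.IsPrime]
    (hq : Ideal.comap (algebraMap A C) q = ⊥) (a : A) :
    genMap K q hq (algebraMap A K a) = algebraMap C q.ResidueField (algebraMap A C a) :=
  IsFractionRing.lift_algebraMap _ a

/-- Generic residue fields of étale algebras are finite separable. -/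
theorem finite_separable [Algebra.Etale A C] (K : Type u) [Field K] [Algebra A K] [IsFractionRing A K]
    (q : Ideal C) [q.IsPrime] (hq : Ideal.comap (algebraMap A C) q = ⊥) :
    letI := (genMap K q hq).toAlgebra
    FiniteDimensional K q.ResidueField ∧ Algebra.IsSeparable K q.ResidueField := by
  letI := (genMap K q hq).toAlgebra
  haveI : IsScalarTower A K q.ResidueField := IsScalarTower.of_algebraMap_eq fun a => by
    rw [IsScalarTower.algebraMap_apply A C q.ResidueField]
    exact (genMap_algebraMap K q hq a).symm
  let Φ : K ⊗[A] C →ₐ[K] q.ResidueField := Algebra.TensorProduct.lift (Algebra.ofId K _)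
    (IsScalarTower.toAlgHom A C q.ResidueField) fun _ _ => .all _ _
  haveI : Module.Finite K (K ⊗[A] C) := Algebra.FormallyUnramified.finite_of_free K (K ⊗[A] C)
  have hC : ∀ c, algebraMap C q.ResidueField c ∈ Φ.range := fun c => ⟨(1 : K) ⊗ₜ c, by simp [Φ]⟩
  haveI : Module.Finite K Φ.range := Module.Finite.of_surjective Φ.rangeRestrict.toLinearMap Φ.rangeRestrict_surjective
  have hsurj : Function.Surjective Φ := by
    intro z
    obtain ⟨a, b, -, rfl⟩ := IsFractionRing.div_surjective (C ⧸ q) z
    obtain ⟨a, rfl⟩ := Ideal.Quotient.mk_surjective a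
    obtain ⟨b, rfl⟩ := Ideal.Quotient.mk_surjective b
    rw [Ideal.algebraMap_quotient_residueField_mk, Ideal.algebraMap_quotient_residueField_mk, div_eq_mul_inv]
    exact Φ.range.mul_mem (hC a) (Subalgebra.inv_mem_of_algebraic Φ.range (x := ⟨_, hC b⟩)
      (IsIntegral.isAlgebraic ((IsIntegral.of_finite K (⟨_, hC b⟩ : Φ.range)).map Φ.range.val)))
  exact ⟨Module.Finite.of_surjective Φ.toLinearMap hsurj,
    ⟨fun z => by obtain ⟨t, rfl⟩ := hsurj z; exact Hens.isSeparable_of_etale_field Φ t⟩⟩

end Generic

variable {A : Type u} [CommRing A] [IsRegularLocalRing A] [IsDomain A] {r : ℕ} (f : Fin r → A)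
  [∀ i, (Ideal.span {f i}).IsPrime] {C : Type u} [CommRing C] [Algebra A C] [Algebra.Etale A C]
  (htame : SGA1.IsTameAlong f (algebraMap A C)) (hf0 : ∀ i, f i ≠ 0)
  (S : Type u) [CommRing S] [IsRegularLocalRing S] [Algebra A S] [Module.Flat A S]
  (hm : ∀ i, algebraMap A S (f i) ∈ maximalIdeal S)
  (hf : LinearIndependent (ResidueField S)
    (fun i => (maximalIdeal S).toCotangent ⟨algebraMap A S (f i), hm i⟩))
  (n : Fin r → ℕ) (hn : ∀ i, 1 ≤ n i)

local notation "A'" => SGA1.kummerAlg S (fun i => algebraMap A S (f i)) n

include hn in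
theorem flat_kummer : Module.Flat A A' := by
  obtain ⟨_, _⟩ := finite_free S (fun i => algebraMap A S (f i)) n hn
  exact Module.Flat.trans A S A'

include hm hf hn hf0 in
theorem injective_kummer : Function.Injective (algebraMap A A') := by
  haveI := flat_kummer f S n hn
  haveI := isDomain S _ n hm hf hn
  refine (injective_iff_map_eq_zero _).2 fun a ha => ?_
  by_contra hne
  have hreg : IsSMulRegular A' (algebraMap A A' a) :=
    IsSMulRegular.of_flat (show IsSMulRegular A a from fun u v h => mul_left_cancel₀ hne h)
  exact one_ne_zero (hreg (show algebraMap A A' a • (1 : A') = algebraMap A A' a • (0 : A') by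
    simp only [smul_eq_mul]; rw [ha, zero_mul, zero_mul]))

include hm hf hn hf0 htame in
/-- A cover tame along `(f_i)` becomes unramified at `T_i = 0` once `n i` is divisible by all
ramification indices. -/
theorem unram_at_T (i : Fin r) (hdvd : DvdAt C (f i) (n i))
    (K' : Type u) [Field K'] [Algebra A' K'] [IsFractionRing A' K'] [Algebra A K'] [IsScalarTower A A' K']
    (y : Ideal A') [y.IsPrime] (hy : y = Ideal.span {T S (fun i => algebraMap A S (f i)) n i})
    (R : Type u) [CommRing R] [IsDomain R] [IsDiscreteValuationRing R] [Algebra A' R]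
    [IsLocalization.AtPrime R y] [Algebra R K'] [IsScalarTower A' R K'] [IsFractionRing R K']
    (L : Type u) [Field L] [Algebra K' L] [FiniteDimensional K' L] [Algebra.IsSeparable K' L]
    (g : C →+* L) (hg : ∀ a, g (algebraMap A C a) = algebraMap K' L (algebraMap A K' a))
    (hgen : Subfield.closure (Set.range g ∪ Set.range (algebraMap K' L)) = ⊤) :
    EtRam.IsUnramifiedExt R ((algebraMap K' L).comp (algebraMap R K')) := by
  subst hy
  let K := FractionRing A
  let q := RingHom.ker g
  haveI : q.IsPrime := RingHom.ker_isPrime g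
  have hinj := injective_kummer f hf0 S hm hf n hn
  have hinjK : Function.Injective (algebraMap A K') := by
    rw [IsScalarTower.algebraMap_eq A A' K']
    exact (IsFractionRing.injective A' K').comp hinj
  have hq : Ideal.comap (algebraMap A C) q = ⊥ := by
    rw [eq_bot_iff]
    intro a ha
    have h0 : algebraMap K' L (algebraMap A K' a) = 0 := (hg a).symm.trans ha
    exact hinjK (((algebraMap K' L).injective (h0.trans (map_zero _).symm)).trans (map_zero _).symm)
  letI : Algebra K q.ResidueField := (genMap K q hq).toAlgebra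
  obtain ⟨_, _⟩ := finite_separable K q hq
  letI : Algebra K K' := (IsFractionRing.lift hinjK).toAlgebra
  have hKK : ∀ a, algebraMap K K' (algebraMap A K a) = algebraMap A K' a := fun a =>
    IsFractionRing.lift_algebraMap hinjK a
  let gq : q.ResidueField →+* L := IsFractionRing.lift (A := C ⧸ q) (g := Ideal.Quotient.lift q g fun _ h => h)
    (RingHom.lift_injective_of_ker_le_ideal q _ le_rfl)
  have hgq : ∀ c, gq (algebraMap C q.ResidueField c) = g c := fun c => by
    rw [← Ideal.algebraMap_quotient_residueField_mk]
    exact (IsFractionRing.lift_algebraMap _ _).trans (Ideal.Quotient.lift_mk q g _)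
  let P := Ideal.span {f i}
  haveI : IsDomain (Localization.AtPrime P) := IsLocalization.isDomain_localization P.primeCompl_le_nonZeroDivisors
  haveI : IsNoetherianRing (Localization.AtPrime P) := IsLocalization.isNoetherianRing P.primeCompl _ inferInstance
  have hπ : maximalIdeal (Localization.AtPrime P) = Ideal.span {algebraMap A (Localization.AtPrime P) (f i)} := by
    rw [← Localization.AtPrime.map_eq_maximalIdeal (I := P), Ideal.map_span, Set.image_singleton]
  have hπ0 : algebraMap A (Localization.AtPrime P) (f i) ≠ 0 :=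
    (map_ne_zero_iff _ (IsLocalization.injective (Localization.AtPrime P) P.primeCompl_le_nonZeroDivisors)).2 (hf0 i)
  have hnf : ¬ IsField (Localization.AtPrime P) := fun h => by
    have hb := IsLocalRing.isField_iff_maximalIdeal_eq.1 h
    rw [hπ, Ideal.span_singleton_eq_bot] at hb
    exact hπ0 hb
  have hp : (maximalIdeal (Localization.AtPrime P)).IsPrincipal := ⟨_, hπ⟩
  haveI : IsDiscreteValuationRing (Localization.AtPrime P) :=
    ((IsDiscreteValuationRing.TFAE (Localization.AtPrime P) hnf).out 4 0).1 hp
  letI : Algebra (Localization.AtPrime P) K := (IsLocalization.lift (M := P.primeCompl) (g := algebraMap A K)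
    fun s => isUnit_iff_ne_zero.2 ((map_ne_zero_iff _ (IsFractionRing.injective A K)).2
      fun h0 => s.2 (h0 ▸ P.zero_mem))).toAlgebra
  haveI : IsScalarTower A (Localization.AtPrime P) K := IsScalarTower.of_algebraMap_eq fun a => by
    rw [RingHom.algebraMap_toAlgebra, IsLocalization.lift_eq]
  haveI : IsFractionRing (Localization.AtPrime P) K :=
    IsFractionRing.isFractionRing_of_isDomain_of_isLocalization P.primeCompl (Localization.AtPrime P) K
  have hmap : (algebraMap K q.ResidueField).comp (algebraMap (Localization.AtPrime P) K) =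
      SGA1.genericResidueMap (algebraMap A C) P q hq := by
    refine IsLocalization.ringHom_ext P.primeCompl (RingHom.ext fun a => ?_)
    simp only [RingHom.comp_apply]
    rw [← IsScalarTower.algebraMap_apply A (Localization.AtPrime P) K]
    exact (genMap_algebraMap K q hq a).trans
      (IsLocalization.lift_eq (SGA1.isUnit_genericResidue (algebraMap A C) P q hq) a).symm
  haveI := flat_kummer f S n hn
  haveI : Algebra.HasGoingDown A A' := Algebra.HasGoingDown.of_flat
  have hcomap := comap_T S (fun i => algebraMap A S (f i)) n hm hf hn (f i) i rfl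
  let ι : Localization.AtPrime P →+* R := IsLocalization.lift (M := P.primeCompl)
    (g := (algebraMap A' R).comp (algebraMap A A')) fun s => IsLocalization.map_units R
      (⟨algebraMap A A' s, fun hs => s.2 (hcomap.le hs)⟩ : (Ideal.span {T S _ n i}).primeCompl)
  have hι : ∀ a, ι (algebraMap A _ a) = algebraMap A' R (algebraMap A A' a) := fun a => IsLocalization.lift_eq _ a
  haveI : IsLocalHom ι := by
    refine ⟨fun x hx => ?_⟩
    obtain ⟨a, s, rfl⟩ := IsLocalization.exists_mk'_eq P.primeCompl x
    rw [IsLocalization.AtPrime.isUnit_mk'_iff _ P a s]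
    intro ha
    have h1 : IsUnit (ι (algebraMap A _ a)) := by
      rw [← IsLocalization.mk'_spec (Localization.AtPrime P) a s, map_mul]
      refine hx.mul ?_
      rw [hι]
      exact IsLocalization.map_units R (⟨_, fun hs => s.2 (hcomap.le hs)⟩ : (Ideal.span {T S _ n i}).primeCompl)
    rw [hι, IsLocalization.AtPrime.isUnit_to_map_iff R (Ideal.span {T S _ n i})] at h1
    exact h1 (hcomap.ge ha)
  have hcompat : ∀ a, algebraMap K K' (algebraMap (Localization.AtPrime P) K a) = algebraMap R K' (ι a) := by
    intro a
    refine RingHom.congr_fun (IsLocalization.ringHom_ext P.primeCompl (j := (algebraMap K K').comp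
      (algebraMap (Localization.AtPrime P) K)) (k := (algebraMap R K').comp ι) (RingHom.ext fun b => ?_)) a
    simp only [RingHom.comp_apply]
    rw [← IsScalarTower.algebraMap_apply A (Localization.AtPrime P) K, hKK, hι,
      ← IsScalarTower.algebraMap_apply A' R K', ← IsScalarTower.algebraMap_apply A A' K']
  refine isUnramifiedExt_compositum (Localization.AtPrime P) K q.ResidueField
    (algebraMap A _ (f i)) ((IsDiscreteValuationRing.irreducible_iff_uniformizer _).2 hπ)
    (by rw [hmap]; exact htame i q hq) (n i) ?_ R K' L ι hcompat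
    (algebraMap A' K' (T S _ n i)) ?_ gq ?_ ?_
  · rw [hmap]
    exact fun V hV => hdvd q hq V hV
  · rw [← map_pow, T_pow, ← IsScalarTower.algebraMap_apply A (Localization.AtPrime P) K, hKK,
      IsScalarTower.algebraMap_apply A A' K']
    rfl
  · have heq : gq.comp (algebraMap K q.ResidueField) = (algebraMap K' L).comp (algebraMap K K') :=
      IsLocalization.ringHom_ext (nonZeroDivisors A) (RingHom.ext fun a => by
        simp only [RingHom.comp_apply]
        rw [hKK, ← hg, ← hgq]
        exact congrArg gq (genMap_algebraMap K q hq a))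
    exact fun c => RingHom.congr_fun heq c
  · refine eq_top_iff.2 (hgen.ge.trans (Subfield.closure_le.2 ?_))
    rintro _ (⟨c, rfl⟩ | ⟨c, rfl⟩)
    · exact Subfield.subset_closure (Or.inl ⟨_, hgq c⟩)
    · exact Subfield.subset_closure (Or.inr ⟨c, rfl⟩)

/-- Away from the divisor an étale algebra which is integral there is unramified. -/
theorem unram_of_not_mem {A : Type u} [CommRing A] (F : A) {C : Type u} [CommRing C] [Algebra A C]
    [Algebra.Etale A C] (hint : ∀ c : C, ∃ k : ℕ, IsIntegral A (algebraMap A C F ^ k * c))
    (R : Type u) [CommRing R] [IsDomain R] [IsDiscreteValuationRing R] [Algebra A R] (hF : IsUnit (algebraMap A R F))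
    (K : Type u) [Field K] [Algebra R K] [IsFractionRing R K] [Algebra A K] [IsScalarTower A R K]
    (L : Type u) [Field L] [Algebra K L] [FiniteDimensional K L] [Algebra.IsSeparable K L]
    (g : C →+* L) (hg : ∀ a, g (algebraMap A C a) = algebraMap K L (algebraMap A K a))
    (hgen : Subfield.closure (Set.range g ∪ Set.range (algebraMap K L)) = ⊤) :
    EtRam.IsUnramifiedExt R ((algebraMap K L).comp (algebraMap R K)) := by
  letI : Algebra R L := ((algebraMap K L).comp (algebraMap R K)).toAlgebra
  haveI : IsScalarTower R K L := IsScalarTower.of_algebraMap_eq fun _ => rfl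
  letI : Algebra A L := ((algebraMap R L).comp (algebraMap A R)).toAlgebra
  haveI : IsScalarTower A R L := IsScalarTower.of_algebraMap_eq fun _ => rfl
  let gA : C →ₐ[A] L := { g with commutes' := fun a => (hg a).trans (congrArg (algebraMap K L)
    (IsScalarTower.algebraMap_apply A R K a)) }
  haveI : Algebra.IsIntegral R (R ⊗[A] C) := by
    refine ⟨fun z => ?_⟩
    induction z using TensorProduct.induction_on with
    | zero => exact isIntegral_zero
    | add a b ha hb => exact ha.add hb
    | tmul a c =>
      obtain ⟨k, hk⟩ := hint c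
      obtain ⟨u, hu⟩ := hF
      have h1 : IsIntegral R ((1 : R) ⊗ₜ[A] (algebraMap A C F ^ k * c)) :=
        (hk.map (Algebra.TensorProduct.includeRight : C →ₐ[A] R ⊗[A] C)).tower_top
      have h2 : ((1 : R) ⊗ₜ[A] (algebraMap A C F ^ k * c)) = ((u : R) ^ k) • ((1 : R) ⊗ₜ[A] c) := by
        rw [hu, ← map_pow, ← map_pow, ← Algebra.smul_def, TensorProduct.tmul_smul,
          algebraMap_smul]
      have h3 : (a ⊗ₜ[A] c : R ⊗[A] C) = (a * ((↑u⁻¹ : R) ^ k)) • ((1 : R) ⊗ₜ[A] (algebraMap A C F ^ k * c)) := by
        rw [h2, smul_smul, mul_assoc, ← mul_pow, Units.inv_mul, one_pow, mul_one, TensorProduct.smul_tmul',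
          smul_eq_mul, mul_one]
      rw [h3]
      exact h1.smul _
  let ψ : R ⊗[A] C →ₐ[R] L := Algebra.TensorProduct.lift (Algebra.ofId R L) gA fun _ _ => .all _ _
  obtain ⟨het, heq⟩ := EtStruct.etale_range_and_eq_integralClosure (K := K) ψ (IsScalarTower.toAlgHom R K L) (by
    refine eq_top_iff.2 (hgen.ge.trans (Subfield.closure_le.2 ?_))
    rintro _ (⟨c, rfl⟩ | ⟨c, rfl⟩)
    · exact Subfield.subset_closure (Or.inr ⟨(1 : R) ⊗ₜ c, by simp [ψ, gA]⟩)
    · exact Subfield.subset_closure (Or.inl ⟨c, rfl⟩))
  haveI : Algebra.FormallyUnramified R (integralClosure R L) := by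
    rw [← heq]; infer_instance
  exact EtRamLib.ValTower.isUnramifiedExt_of_formallyUnramified R K L

end Groth.Agent.AbsAbh
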