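import Mathlib
import Groth.Prelude.Def_SGA1
import Groth.Agent.FEtCat.Basic
import Groth.Agent.PurityReg.ExtendNormal
import Groth.Agent.RegLoc.Homological
import Groth.Agent.AbsAbh.Unram

/-!
# Extension of finite étale covers unramified in codimension one over a regular local ring
-/

set_option autoImplicit false
set_option linter.style.haveILetI false
set_option maxHeartbeats 800000

universe u

open CategoryTheory CategoryTheory.Limits AlgebraicGeometry IsLocalRing
open scoped TensorProduct

namespace Groth.Agent.AbsAbh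

/-- A model over a discrete valuation ring of a finite étale algebra over its fraction field all of
whose factors are unramified. -/
theorem exists_integral_model (R K P : Type u) [CommRing R] [IsDomain R] [IsDiscreteValuationRing R]
    [Field K] [Algebra R K] [IsFractionRing R K] [CommRing P] [Algebra K P] [Algebra.Etale K P]
    (h : ∀ (L : Type u) [Field L] [Algebra K L] [FiniteDimensional K L] [Algebra.IsSeparable K L]
      (g : P →ₐ[K] L), Function.Surjective g →
      EtRam.IsUnramifiedExt R ((algebraMap K L).comp (algebraMap R K))) :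
    ∃ (B : Type u) (_ : CommRing B) (_ : Algebra R B),
      Algebra.Etale R B ∧ Module.Finite R B ∧ Nonempty ((K ⊗[R] B) ≃ₐ[K] P) := by
  classical
  obtain ⟨I, _, L, _, _, e, hL⟩ := (Algebra.Etale.iff_exists_algEquiv_prod K P).1 inferInstance
  haveI := Fintype.ofFinite I
  letI : ∀ i, Algebra R (L i) := fun i => ((algebraMap K (L i)).comp (algebraMap R K)).toAlgebra
  haveI : ∀ i, IsScalarTower R K (L i) := fun i => IsScalarTower.of_algebraMap_eq fun _ => rfl
  haveI : ∀ i, Module.Finite K (L i) := fun i => (hL i).1
  haveI : ∀ i, Algebra.IsSeparable K (L i) := fun i => (hL i).2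
  have hB := fun i => etale_integralClosure R K (L i)
    (h (L i) ((Pi.evalAlgHom K L i).comp e.toAlgHom) ((Function.surjective_eval i).comp e.surjective))
  haveI : ∀ i, Algebra.Etale R (integralClosure R (L i)) := fun i => (hB i).1
  haveI : ∀ i, Module.Finite R (integralClosure R (L i)) := fun i => (hB i).2
  refine ⟨∀ i, integralClosure R (L i), inferInstance, inferInstance, inferInstance, inferInstance, ⟨?_⟩⟩
  let φ : ∀ i, (K ⊗[R] integralClosure R (L i)) ≃ₐ[K] L i := fun i => by
    refine AlgEquiv.ofBijective
      (Algebra.TensorProduct.lift (Algebra.ofId K (L i)) (integralClosure R (L i)).val fun _ _ => .all _ _) ?_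
    have hloc : IsLocalization (Algebra.algebraMapSubmonoid (integralClosure R (L i)) (nonZeroDivisors R)) (L i) :=
      IsIntegralClosure.isLocalization R K (L i) (integralClosure R (L i))
    haveI := hloc
    haveI hpo : Algebra.IsPushout R K (integralClosure R (L i)) (L i) :=
      Algebra.IsPushout.symm (Algebra.isPushout_of_isLocalization (nonZeroDivisors R) K (integralClosure R (L i)) (L i))
    have hb : IsBaseChange K ((integralClosure R (L i)).val.toLinearMap) := hpo.out
    have heq : ∀ z, Algebra.TensorProduct.lift (Algebra.ofId K (L i)) (integralClosure R (L i)).val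
        (fun _ _ => .all _ _) z = hb.equiv z := fun z => by
      induction z using TensorProduct.induction_on with
      | zero => rw [map_zero, map_zero]
      | add a b ha hb' => rw [map_add, map_add, ha, hb']
      | tmul a b =>
        rw [Algebra.TensorProduct.lift_tmul, IsBaseChange.equiv_tmul, Algebra.smul_def]
        rfl
    rw [funext heq]
    exact hb.equiv.bijective
  exact (Algebra.TensorProduct.piRight R K K (fun i => integralClosure R (L i))).trans
    ((AlgEquiv.piCongrRight φ).trans e.symm)

/-- The restriction of a cover is any pullback square. -/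
noncomputable def restrictIso {P X : Scheme.{u}} (h : P ⟶ X) (Y : FEt.Cat X) (Z : FEt.Cat P)
    (k : Z.left ⟶ Y.left) (hk : IsPullback k Z.hom Y.hom h) : (FEt.restrict h).obj Y ≅ Z :=
  MorphismProperty.Over.isoMk hk.isoPullback.symm hk.isoPullback_inv_snd

variable {A : Type u} [CommRing A] [IsRegularLocalRing A] [IsDomain A] (G : A)
  (C : Type u) [CommRing C] [Algebra A C] [Algebra.Etale A C]
  (Y : FEt.Cat ((SGA1.specBasicOpen A G) : Scheme.{u})) (e : Y.left ≅ Spec (CommRingCat.of C))
  (he : e.hom ≫ Spec.map (CommRingCat.ofHom (algebraMap A C)) = Y.hom ≫ (SGA1.specBasicOpen A G).ι)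
  (K : Type u) [Field K] [Algebra A K] [IsFractionRing A K]

include e he in
/-- A finite étale cover of `D(G)` unramified in codimension one extends. -/
theorem exists_extension_alg (hG : G ≠ 0)
    (hunr : ∀ (y : Ideal A) [y.IsPrime], y.height = 1 → G ∈ y →
      ∀ (R : Type u) [CommRing R] [IsDomain R] [IsDiscreteValuationRing R] [Algebra A R]
        [IsLocalization.AtPrime R y] [Algebra R K] [IsScalarTower A R K] [IsFractionRing R K]
        (L : Type u) [Field L] [Algebra K L] [FiniteDimensional K L] [Algebra.IsSeparable K L]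
        (g : C →+* L), (∀ a, g (algebraMap A C a) = algebraMap K L (algebraMap A K a)) →
        Subfield.closure (Set.range g ∪ Set.range (algebraMap K L)) = ⊤ →
        EtRam.IsUnramifiedExt R ((algebraMap K L).comp (algebraMap R K))) :
    ∃ W : FEt.Cat (Spec (CommRingCat.of A)),
      Nonempty ((FEt.restrict (SGA1.specBasicOpen A G).ι).obj W ≅ Y) := by
  classical
  let X := Spec (CommRingCat.of A)
  let U : X.Opens := SGA1.specBasicOpen A G
  have hbotU : (⟨⊥, Ideal.isPrime_bot⟩ : PrimeSpectrum A) ∈ U := fun h => hG (Ideal.mem_bot.1 h)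
  have hU : Dense (U : Set X) := fun x => by
    have hs : (⟨⊥, Ideal.isPrime_bot⟩ : PrimeSpectrum A) ⤳ (x : PrimeSpectrum A) :=
      (PrimeSpectrum.le_iff_specializes _ _).1 bot_le
    exact closure_mono (Set.singleton_subset_iff.2 hbotU) (specializes_iff_mem_closure.1 hs)
  refine PurityReg.exists_extension_noetherian (X := X) U hU Y (fun x _ => ?_) fun ξ hξ hd => ?_
  · let p : Ideal A := (x : PrimeSpectrum A).asIdeal
    haveI : p.IsPrime := (x : PrimeSpectrum A).2
    letI : Algebra A (X.presheaf.stalk x) := StructureSheaf.stalkAlgebra (R := A) x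
    haveI : IsLocalization.AtPrime (X.presheaf.stalk x) p :=
      StructureSheaf.IsLocalization.to_stalk A x
    haveI := RegLoc.Homological.isRegularLocalRing_localization (R := A) p
    exact IsRegularLocalRing.of_ringEquiv
      (IsLocalization.algEquiv p.primeCompl (Localization.AtPrime p) (X.presheaf.stalk x)).toRingEquiv
  let y : Ideal A := (ξ : PrimeSpectrum A).asIdeal
  haveI : y.IsPrime := (ξ : PrimeSpectrum A).2
  have hGy : G ∈ y := not_not.1 hξ
  let R : Type u := X.presheaf.stalk ξ
  letI : Algebra A R := StructureSheaf.stalkAlgebra (R := A) ξ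
  haveI : IsLocalization.AtPrime R y := StructureSheaf.IsLocalization.to_stalk A ξ
  have hy1 : y.height = 1 := by
    have h1 := IsLocalization.AtPrime.ringKrullDim_eq_height y R
    rw [hd] at h1
    exact_mod_cast h1.symm
  haveI : IsDomain R := IsLocalization.isDomain_of_le_nonZeroDivisors _ y.primeCompl_le_nonZeroDivisors
  haveI : IsRegularLocalRing R := by
    haveI := RegLoc.Homological.isRegularLocalRing_localization (R := A) y
    exact IsRegularLocalRing.of_ringEquiv
      (IsLocalization.algEquiv y.primeCompl (Localization.AtPrime y) R).toRingEquiv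
  haveI : IsDiscreteValuationRing R := by
    have hnf : ¬ IsField R := fun h => by
      have h0 := ringKrullDim_eq_zero_of_isField h
      rw [hd] at h0
      exact one_ne_zero h0
    have hp : (maximalIdeal R).IsPrincipal := by
      exact ((Submodule.spanFinrank_eq_one_iff _).1
        (RegLoc.spanFinrank_eq_dim (R := R) (n := 1) (by rw [hd]; rfl))).1
    exact ((IsDiscreteValuationRing.TFAE R hnf).out 4 0).1 hp
  letI : Algebra R K := (IsLocalization.lift (M := y.primeCompl) (g := algebraMap A K) (S := R)
    fun s => (map_ne_zero_iff _ (IsFractionRing.injective A K)).2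
      (fun h0 : (s : A) = 0 => s.2 (h0 ▸ y.zero_mem)) |>.isUnit).toAlgebra
  haveI : IsScalarTower A R K := IsScalarTower.of_algebraMap_eq fun a => by
    rw [RingHom.algebraMap_toAlgebra, IsLocalization.lift_eq]
  haveI : IsFractionRing R K :=
    IsFractionRing.isFractionRing_of_isDomain_of_isLocalization y.primeCompl R K
  -- the model over `R`
  let P : Type u := K ⊗[A] C
  obtain ⟨B, _, _, _, _, ⟨ε⟩⟩ := exists_integral_model R K P fun L _ _ _ _ gP hgP => by
    refine hunr y hy1 hGy R L (gP.toRingHom.comp Algebra.TensorProduct.includeRight.toRingHom) (fun a => ?_) ?_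
    · change gP ((1 : K) ⊗ₜ algebraMap A C a) = _
      rw [show ((1 : K) ⊗ₜ[A] algebraMap A C a : P) = algebraMap K P (algebraMap A K a) from
        ((Algebra.TensorProduct.includeRight : C →ₐ[A] P).commutes a).trans
          (IsScalarTower.algebraMap_apply A K P a), AlgHom.commutes]
    · rw [eq_top_iff]
      intro z hz
      clear hz
      obtain ⟨w, rfl⟩ := hgP z
      induction w using TensorProduct.induction_on with
      | zero => rw [map_zero]; exact zero_mem _
      | add a b ha hb => rw [map_add]; exact add_mem ha hb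
      | tmul a c =>
        rw [show (a ⊗ₜ[A] c : P) = algebraMap K P a * ((1 : K) ⊗ₜ[A] c) by
          rw [Algebra.TensorProduct.algebraMap_apply, Algebra.TensorProduct.tmul_mul_tmul, one_mul, mul_one]
          rfl, map_mul, AlgHom.commutes]
        exact mul_mem (Subfield.subset_closure (Or.inr ⟨a, rfl⟩)) (Subfield.subset_closure (Or.inl ⟨c, rfl⟩))
  have hBf : IsFinite (Spec.map (CommRingCat.ofHom (algebraMap R B))) :=
    (IsFinite.SpecMap_iff _).2 (RingHom.finite_algebraMap.2 ‹_›)
  have hBe : Etale (Spec.map (CommRingCat.ofHom (algebraMap R B))) :=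
    (HasRingHomProperty.Spec_iff (P := @Etale)).2 (RingHom.etale_algebraMap.2 ‹_›)
  let EB : FEt.Cat (Spec (CommRingCat.of R)) :=
    MorphismProperty.Over.mk ⊤ (Spec.map (CommRingCat.ofHom (algebraMap R B))) ⟨hBf, hBe⟩
  refine ⟨EB, ⟨?_⟩⟩
  -- the punctured local scheme is the generic point
  haveI : IsLocalization.Away (algebraMap A R G) K := by
    have hG0 : algebraMap A K G ≠ 0 := (map_ne_zero_iff _ (IsFractionRing.injective A K)).2 hG
    refine (isLocalization_iff _ _).2 ⟨?_, fun z => ?_, fun {a b} h => ⟨1, by rw [IsFractionRing.injective R K h]⟩⟩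
    · rintro ⟨_, k, rfl⟩
      rw [map_pow, ← IsScalarTower.algebraMap_apply]
      exact (Ne.isUnit hG0).pow k
    · obtain ⟨a, b, hb, rfl⟩ := IsFractionRing.div_surjective R z
      obtain ⟨ϖ, hϖ⟩ := IsDiscreteValuationRing.exists_irreducible R
      obtain ⟨k, u, rfl⟩ := IsDiscreteValuationRing.eq_unit_mul_pow_irreducible (nonZeroDivisors.ne_zero hb) hϖ
      have hGm : algebraMap A R G ∈ maximalIdeal R :=
        (IsLocalization.AtPrime.to_map_mem_maximal_iff R y G).2 hGy
      rw [hϖ.maximalIdeal_eq, Ideal.mem_span_singleton] at hGm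
      obtain ⟨c, hc⟩ := pow_dvd_pow_of_dvd hGm k
      refine ⟨(a * (↑u⁻¹ * c), ⟨_, k, rfl⟩), ?_⟩
      have hb0 := (map_ne_zero_iff _ (IsFractionRing.injective R K)).2 (nonZeroDivisors.ne_zero hb)
      rw [div_mul_eq_mul_div, div_eq_iff hb0, ← map_mul, ← map_mul]
      congr 1
      change a * (algebraMap A R G) ^ k = _
      rw [hc]
      linear_combination (-(a * c * ϖ ^ k)) * u.inv_mul
  let j := X.fromSpecStalk ξ
  have hj : j = Spec.map (CommRingCat.ofHom (algebraMap A R)) := Spec.fromSpecStalk_eq' _ _
  let b : Spec (CommRingCat.of K) ⟶ Spec (CommRingCat.of R) := Spec.map (CommRingCat.ofHom (algebraMap R K))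
  haveI : IsOpenImmersion b := IsOpenImmersion.of_isLocalization (algebraMap A R G)
  have hrange : Set.range b = Set.range (pullback.snd U.ι j) := by
    rw [Scheme.Pullback.range_snd, Scheme.Opens.range_ι]
    refine (PrimeSpectrum.localization_away_comap_range K (algebraMap A R G)).trans ?_
    rw [hj]
    rfl
  let w := IsOpenImmersion.isoOfRangeEq b (pullback.snd U.ι j) hrange
  have hw : w.hom ≫ pullback.snd U.ι j = b := IsOpenImmersion.isoOfRangeEq_hom_fac _ _ _
  let T : Type u := K ⊗[R] B
  let s : Spec (CommRingCat.of T) ⟶ Spec (CommRingCat.of K) := Spec.map (CommRingCat.ofHom (algebraMap K T))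
  haveI : Algebra.Etale K T := inferInstance
  haveI : Module.Finite K T := inferInstance
  haveI : IsFinite s := (IsFinite.SpecMap_iff _).2 (RingHom.finite_algebraMap.2 ‹_›)
  haveI : Etale s := (HasRingHomProperty.Spec_iff (P := @Etale)).2 (RingHom.etale_algebraMap.2 ‹_›)
  haveI : IsFinite (s ≫ w.hom) := inferInstance
  haveI : Etale (s ≫ w.hom) := inferInstance
  let Z : FEt.Cat (pullback U.ι j) := FEtCat.Basic.mk (s ≫ w.hom)
  have sqB : IsPullback (Spec.map (CommRingCat.ofHom
      (Algebra.TensorProduct.includeRight : B →ₐ[R] T).toRingHom)) (s ≫ w.hom)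
      (Spec.map (CommRingCat.ofHom (algebraMap R B))) (pullback.snd U.ι j) := by
    have h0 := (isPullback_SpecMap_of_isPushout _ _ _ _ (CommRingCat.isPushout_tensorProduct R K B)).flip
    refine IsPullback.of_iso h0 (Iso.refl _) (Iso.refl _) w (Iso.refl _) ?_ ?_ ?_ ?_
    · simp only [Iso.refl_hom, Category.id_comp, Category.comp_id]
    · simp only [Iso.refl_hom, Category.id_comp]; rfl
    · simp only [Iso.refl_hom, Category.id_comp, Category.comp_id]
    · simp only [Iso.refl_hom, Category.comp_id]; exact hw.symm
  let E : Spec (CommRingCat.of T) ≅ Spec (CommRingCat.of P) :=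
    Scheme.Spec.mapIso ε.symm.toRingEquiv.toCommRingCatIso.op
  let kC : Spec (CommRingCat.of T) ⟶ Y.left :=
    E.hom ≫ Spec.map (CommRingCat.ofHom (Algebra.TensorProduct.includeRight : C →ₐ[A] P).toRingHom) ≫ e.inv
  have sqC0 : IsPullback kC s (Y.hom ≫ U.ι) (Spec.map (CommRingCat.ofHom (algebraMap A K))) := by
    have h0 := (isPullback_SpecMap_of_isPushout _ _ _ _ (CommRingCat.isPushout_tensorProduct A K C)).flip
    refine IsPullback.of_iso' h0 E e.symm.symm (Iso.refl _) (Iso.refl _) ?_ ?_ ?_ ?_
    · simp only [kC, Iso.symm_symm_eq, Category.assoc, Iso.inv_hom_id, Category.comp_id]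
    · simp only [Iso.refl_hom, Category.comp_id]
      change Spec.map (CommRingCat.ofHom ε.symm.toRingHom) ≫ Spec.map _ = s
      rw [← Spec.map_comp]
      congr 1
      ext c
      exact ε.symm.commutes c
    · simp only [Iso.symm_symm_eq, Iso.refl_hom, Category.comp_id]
      exact he
    · simp only [Iso.refl_hom, Category.id_comp, Category.comp_id]
  have hbase : (w.hom ≫ pullback.fst U.ι j) ≫ U.ι = Spec.map (CommRingCat.ofHom (algebraMap A K)) := by
    rw [Category.assoc, pullback.condition, ← Category.assoc, hw, hj, ← Spec.map_comp]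
    congr 1
    ext a
    exact (IsScalarTower.algebraMap_apply A R K a).symm
  have sqC : IsPullback kC (s ≫ w.hom) Y.hom (pullback.fst U.ι j) := by
    refine IsPullback.mk' ?_ (fun T' φ φ' h1 h2 => sqC0.hom_ext h1 ?_) fun T' a c hac => ?_
    · rw [← cancel_mono U.ι, Category.assoc, sqC0.w, ← hbase]
      simp only [Category.assoc]
    · exact (cancel_mono w.hom).1 (by simpa only [Category.assoc] using h2)
    · refine ⟨sqC0.lift a (c ≫ w.inv) ?_, sqC0.lift_fst _ _ _, ?_⟩
      · rw [← hbase, reassoc_of% hac]
        simp only [Category.assoc, Iso.inv_hom_id_assoc]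
      · rw [← Category.assoc, sqC0.lift_snd, Category.assoc, Iso.inv_hom_id, Category.comp_id]
  exact restrictIso (pullback.snd U.ι j) EB Z _ sqB ≪≫
    (restrictIso (pullback.fst U.ι j) Y Z kC sqC).symm

end Groth.Agent.AbsAbh
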