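import Mathlib
import Groth.Agent.AbsAbh.Extend
import Groth.Agent.EtRamLib.Kummer.StrictSplit

/-!
# Covers unramified in codimension one over strictly henselian regular local rings split
-/

set_option autoImplicit false
set_option linter.style.haveILetI false
set_option maxHeartbeats 800000

universe u

open CategoryTheory CategoryTheory.Limits AlgebraicGeometry IsLocalRing

namespace Groth.Agent.AbsAbh

theorem exists_eval_ker_le {A : Type u} [CommRing A] {d : ℕ} (P : Ideal (Fin d → A)) [P.IsPrime] :
    ∃ k, RingHom.ker (Pi.evalRingHom (fun _ : Fin d => A) k) ≤ P := by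
  classical
  obtain ⟨k, hk⟩ : ∃ k, (Pi.single k (1 : A) : Fin d → A) ∉ P := by
    by_contra h
    push Not at h
    refine ‹P.IsPrime›.ne_top ((Ideal.eq_top_iff_one _).2 ?_)
    rw [← Finset.univ_sum_single (1 : Fin d → A)]
    exact sum_mem fun i _ => h i
  refine ⟨k, fun x hx => (‹P.IsPrime›.mem_or_mem (x := x) (y := Pi.single k 1) ?_).resolve_right hk⟩
  convert P.zero_mem using 1
  funext i
  rcases eq_or_ne i k with rfl | hi
  · simpa using hx
  · simp [hi]

/-- Finite étale covers of strictly henselian local schemes have sections through every point. -/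
theorem exists_section {A : Type u} [CommRing A] [HenselianLocalRing A] [IsSepClosed (ResidueField A)]
    (W : FEt.Cat (Spec (CommRingCat.of A))) (z : W.left) :
    ∃ s : Spec (CommRingCat.of A) ⟶ W.left, s ≫ W.hom = 𝟙 _ ∧ z ∈ Set.range s := by
  classical
  haveI : IsFinite W.hom := W.prop.1
  haveI : Etale W.hom := W.prop.2
  haveI : IsAffine ((Functor.fromPUnit (Spec (CommRingCat.of A))).obj W.right) :=
    inferInstanceAs (IsAffine (Spec (CommRingCat.of A)))
  haveI : IsAffine W.left := isAffine_of_isAffineHom W.hom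
  let B : Type u := Γ(W.left, ⊤)
  obtain ⟨φ, hφ⟩ : ∃ φ, Spec.map φ = W.left.isoSpec.inv ≫ W.hom := ⟨_, Spec.map_preimage _⟩
  letI : Algebra A B := φ.hom.toAlgebra
  haveI : Module.Finite A B := by
    have h : IsFinite (Spec.map φ) := hφ ▸ inferInstance
    exact RingHom.finite_algebraMap.1 ((IsFinite.SpecMap_iff φ).1 h)
  haveI : Algebra.Etale A B := by
    have h : Etale (Spec.map φ) := hφ ▸ inferInstance
    exact RingHom.etale_algebraMap.1 ((HasRingHomProperty.Spec_iff (P := @Etale)).1 h)
  obtain ⟨d, ⟨ε⟩⟩ := EtRamLib.Kummer.exists_split A B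
  let p : PrimeSpectrum B := W.left.isoSpec.hom.base z
  let P : Ideal (Fin d → A) := p.asIdeal.comap ε.symm.toRingEquiv.toRingHom
  haveI : P.IsPrime := Ideal.comap_isPrime _ _
  obtain ⟨k, hk⟩ := exists_eval_ker_le P
  let ev : (Fin d → A) →+* A := Pi.evalRingHom (fun _ : Fin d => A) k
  have hev : Function.Surjective ev := Function.surjective_eval k
  let χ : CommRingCat.of B ⟶ CommRingCat.of A := CommRingCat.ofHom (ev.comp ε.toRingEquiv.toRingHom)
  refine ⟨Spec.map χ ≫ W.left.isoSpec.inv, ?_, ?_⟩
  · rw [Category.assoc, ← hφ, ← Spec.map_comp, ← Spec.map_id]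
    congr 1
    ext a
    change ev (ε (algebraMap A B a)) = a
    rw [ε.commutes]
    rfl
  · haveI : (P.map ev).IsPrime := Ideal.map_isPrime_of_surjective hev hk
    refine ⟨(⟨P.map ev, ‹_›⟩ : PrimeSpectrum A), ?_⟩
    have h1 : (Spec.map χ).base (⟨P.map ev, ‹_›⟩ : PrimeSpectrum A) = p := by
      refine PrimeSpectrum.ext ?_
      change Ideal.comap (ev.comp ε.toRingEquiv.toRingHom) (P.map ev) = p.asIdeal
      rw [← Ideal.comap_comap, Ideal.comap_map_of_surjective _ hev, ← RingHom.ker_eq_comap_bot,
        sup_eq_left.2 hk, Ideal.comap_comap]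
      convert Ideal.comap_id p.asIdeal using 2
      ext b
      exact ε.symm_apply_apply b
    change W.left.isoSpec.inv.base ((Spec.map χ).base _) = z
    rw [h1]
    change (W.left.isoSpec.hom ≫ W.left.isoSpec.inv).base z = z
    rw [Iso.hom_inv_id]
    rfl

variable {A : Type u} [CommRing A] [IsRegularLocalRing A] [IsDomain A] [HenselianLocalRing A]
  [IsSepClosed (ResidueField A)] (G : A) (C : Type u) [CommRing C] [Algebra A C] [Algebra.Etale A C]
  (Y : FEt.Cat ((SGA1.specBasicOpen A G) : Scheme.{u})) (e : Y.left ≅ Spec (CommRingCat.of C))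
  (he : e.hom ≫ Spec.map (CommRingCat.ofHom (algebraMap A C)) = Y.hom ≫ (SGA1.specBasicOpen A G).ι)
  (K : Type u) [Field K] [Algebra A K] [IsFractionRing A K]

include e he in
/-- Over a strictly henselian regular local ring a cover unramified in codimension one has all its
generic residue fields trivial. -/
theorem surjective_of_unramified (hG : G ≠ 0)
    (hunr : ∀ (y : Ideal A) [y.IsPrime], y.height = 1 → G ∈ y →
      ∀ (R : Type u) [CommRing R] [IsDomain R] [IsDiscreteValuationRing R] [Algebra A R]
        [IsLocalization.AtPrime R y] [Algebra R K] [IsScalarTower A R K] [IsFractionRing R K]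
        (L : Type u) [Field L] [Algebra K L] [FiniteDimensional K L] [Algebra.IsSeparable K L]
        (g : C →+* L), (∀ a, g (algebraMap A C a) = algebraMap K L (algebraMap A K a)) →
        Subfield.closure (Set.range g ∪ Set.range (algebraMap K L)) = ⊤ →
        EtRam.IsUnramifiedExt R ((algebraMap K L).comp (algebraMap R K)))
    (L : Type u) [Field L] [Algebra K L] (g : C →+* L)
    (hg : ∀ a, g (algebraMap A C a) = algebraMap K L (algebraMap A K a))
    (hgen : Subfield.closure (Set.range g ∪ Set.range (algebraMap K L)) = ⊤) :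
    Function.Surjective (algebraMap K L) := by
  classical
  let U := SGA1.specBasicOpen A G
  obtain ⟨W, ⟨eW⟩⟩ := exists_extension_alg G C Y e he K hG hunr
  obtain ⟨h, _, hfac, hrange⟩ := PurityReg.exists_openImmersion_of_restrict_iso U eW
  let q : Spec (CommRingCat.of L) ⟶ Y.left := Spec.map (CommRingCat.ofHom g) ≫ e.inv
  let kA : Spec (CommRingCat.of K) ⟶ Spec (CommRingCat.of A) := Spec.map (CommRingCat.ofHom (algebraMap A K))
  let kL : Spec (CommRingCat.of L) ⟶ Spec (CommRingCat.of K) := Spec.map (CommRingCat.ofHom (algebraMap K L))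
  have hq : (q ≫ h) ≫ W.hom = kL ≫ kA := by
    have h1 : e.inv ≫ Y.hom ≫ U.ι = Spec.map (CommRingCat.ofHom (algebraMap A C)) := by
      rw [Iso.inv_comp_eq]; exact he.symm
    rw [Category.assoc, hfac]
    simp only [q, Category.assoc]
    rw [h1, ← Spec.map_comp, ← Spec.map_comp]
    congr 1
    ext a
    exact hg a
  obtain ⟨s, hs, hz⟩ := exists_section W ((q ≫ h).base (closedPoint L))
  haveI : Etale W.hom := W.prop.2
  haveI : Etale s := by
    have : MorphismProperty.HasOfPostcompProperty @Etale @Etale := inferInstance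
    refine MorphismProperty.of_postcomp (W := @Etale) (W' := @Etale) s W.hom ‹_› ?_
    rw [hs]; infer_instance
  haveI : IsSplitMono s := ⟨⟨⟨W.hom, hs⟩⟩⟩
  haveI : IsOpenImmersion s := IsOpenImmersion.of_flat_of_mono s
  haveI : IsOpenImmersion h := ‹_›
  have hsub : Set.range (q ≫ h).base ⊆ Set.range s.base := by
    rintro _ ⟨t, rfl⟩
    rw [Subsingleton.elim t (closedPoint L)]
    exact hz
  have ha : IsOpenImmersion.lift s (q ≫ h) hsub = kL ≫ kA := by
    rw [← hq]
    conv_rhs => rw [← IsOpenImmersion.lift_fac s (q ≫ h) hsub, Category.assoc, hs, Category.comp_id]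
  have hqs : q ≫ h = kL ≫ kA ≫ s := by
    rw [← IsOpenImmersion.lift_fac s (q ≫ h) hsub, ha, Category.assoc]
  have hsub' : Set.range (kA ≫ s).base ⊆ Set.range h.base := by
    rintro _ ⟨t, rfl⟩
    refine (hrange _).2 ?_
    rw [← Scheme.Hom.comp_apply, Category.assoc, hs, Category.comp_id]
    intro (hmem : G ∈ ((kA.base t : PrimeSpectrum A)).asIdeal)
    have h0 : algebraMap A K G ∈ (t : PrimeSpectrum K).asIdeal := hmem
    rw [(Ideal.eq_bot_or_top (t : PrimeSpectrum K).asIdeal).resolve_right (t : PrimeSpectrum K).2.ne_top,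
      Ideal.mem_bot] at h0
    exact hG (IsFractionRing.injective A K (h0.trans (map_zero _).symm))
  let u := IsOpenImmersion.lift h (kA ≫ s) hsub'
  have hqu : q = kL ≫ u := by
    rw [← cancel_mono h, hqs, Category.assoc, IsOpenImmersion.lift_fac]
  obtain ⟨ψ, hψ⟩ : ∃ ψ, Spec.map ψ = u ≫ e.hom := ⟨_, Spec.map_preimage _⟩
  have hgψ : CommRingCat.ofHom g = ψ ≫ CommRingCat.ofHom (algebraMap K L) := by
    apply Spec.map_injective
    have h1 : Spec.map (CommRingCat.ofHom g) = q ≫ e.hom := by
      simp only [q, Category.assoc, Iso.inv_hom_id, Category.comp_id]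
    rw [h1, hqu, Category.assoc, Spec.map_comp, hψ]
  intro x
  have hle : Subfield.closure (Set.range g ∪ Set.range (algebraMap K L)) ≤ (algebraMap K L).fieldRange := by
    refine Subfield.closure_le.2 ?_
    rintro _ (⟨c, rfl⟩ | ⟨c, rfl⟩)
    · exact ⟨ψ.hom c, (congrArg (fun φ : CommRingCat.of C ⟶ CommRingCat.of L => φ.hom c) hgψ).symm⟩
    · exact ⟨c, rfl⟩
  exact hle (hgen ▸ Subfield.mem_top x)

end Groth.Agent.AbsAbh
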