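import Mathlib
import Groth.Agent.AbsAbh.Setup
import Groth.Agent.AbsAbh.Split
import Groth.Agent.AbsAbh.Cover
import Groth.Agent.Hens.GaloisStage

/-!
# Ramification indices of tame covers are prime to the residue characteristic
-/

set_option autoImplicit false
set_option linter.style.haveILetI false
set_option maxHeartbeats 1600000

universe u

open IsLocalRing
open scoped TensorProduct

namespace Groth.Agent.AbsAbh

variable {A : Type u} [CommRing A] [IsRegularLocalRing A] [IsDomain A] {r : ℕ} (f : Fin r → A)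
  [∀ i, (Ideal.span {f i}).IsPrime] {C : Type u} [CommRing C] [Algebra A C] [Algebra.Etale A C]
  (htame : SGA1.IsTameAlong f (algebraMap A C)) (hf0 : ∀ i, f i ≠ 0)
  (hunit : IsUnit (algebraMap A C (∏ i, f i)))
  (hint : ∀ c : C, ∃ k : ℕ, IsIntegral A (algebraMap A C (∏ i, f i) ^ k * c))
  (S : Type u) [CommRing S] [IsRegularLocalRing S] [Algebra A S] [Module.Flat A S]
  (hm : ∀ i, algebraMap A S (f i) ∈ maximalIdeal S)
  (hf : LinearIndependent (ResidueField S)
    (fun i => (maximalIdeal S).toCotangent ⟨algebraMap A S (f i), hm i⟩))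
  [HenselianLocalRing S] [IsSepClosed (ResidueField S)]
  (n : Fin r → ℕ) (hn : ∀ i, 1 ≤ n i)

local notation "A'" => SGA1.kummerAlg S (fun i => algebraMap A S (f i)) n

omit [HenselianLocalRing S] [IsSepClosed (ResidueField S)] in
/-- Being separably closed transports along ring isomorphisms. -/
theorem isSepClosed_of_ringEquiv' {K L : Type u} [Field K] [Field L] [IsSepClosed K] (e : K ≃+* L) :
    IsSepClosed L := by
  refine IsSepClosed.of_exists_root _ fun p _ hirr hsep => ?_
  obtain ⟨x, hx⟩ := IsSepClosed.exists_root (p.map e.symm.toRingHom)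
    (fun h => (Polynomial.degree_pos_of_irreducible hirr).ne'
      ((p.degree_map e.symm.toRingHom).symm.trans h))
    ((Polynomial.separable_map _).2 hsep)
  refine ⟨e x, ?_⟩
  rw [Polynomial.IsRoot.def, Polynomial.eval_map] at hx
  have h := congrArg e.toRingHom hx
  rw [Polynomial.hom_eval₂, map_zero] at h
  simpa using h

omit [HenselianLocalRing S] [IsSepClosed (ResidueField S)] in
include hm hf hn hf0 in
theorem algebraMap_G_ne_zero : algebraMap A A' (∏ i, f i) ≠ 0 := fun h =>
  (Finset.prod_ne_zero_iff.2 fun i _ => hf0 i)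
    (injective_kummer f hf0 S hm hf n hn (h.trans (map_zero _).symm))

include hm hn in
/-- Kummer algebras over strictly henselian rings are strictly henselian. -/
theorem strictHenselian_kummer [IsLocalRing A'] :
    HenselianLocalRing A' ∧ IsSepClosed (ResidueField A') := by
  obtain ⟨_, _⟩ := finite_free S (fun i => algebraMap A S (f i)) n hn
  haveI : HenselianLocalRing A' := Hens.henselianLocalRing_of_finite (A := S) A'
  refine ⟨inferInstance, ?_⟩
  have hTm : ∀ i, T S (fun i => algebraMap A S (f i)) n i ∈ maximalIdeal A' := fun i => by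
    refine (maximalIdeal.isMaximal A').isPrime.mem_of_pow_mem (n i) ?_
    rw [T_pow]
    have h : (maximalIdeal A').comap (algebraMap S A') = maximalIdeal S :=
      IsLocalRing.eq_maximalIdeal (Ideal.isMaximal_comap_of_isIntegral_of_isMaximal _)
    exact (SetLike.ext_iff.1 h _).2 (hm i)
  haveI : IsLocalHom (algebraMap S A') := by
    refine ⟨fun s hs => ?_⟩
    by_contra hns
    have h : (maximalIdeal A').comap (algebraMap S A') = maximalIdeal S :=
      IsLocalRing.eq_maximalIdeal (Ideal.isMaximal_comap_of_isIntegral_of_isMaximal _)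
    exact ((SetLike.ext_iff.1 h s).2 hns) hs
  have hsurj : Function.Surjective (ResidueField.map (algebraMap S A')) := by
    intro z
    obtain ⟨z, rfl⟩ := residue_surjective z
    refine induction_kummer S _ n (P := fun z => residue A' z ∈ (ResidueField.map (algebraMap S A')).range)
      (fun a => ⟨residue S a, rfl⟩) (fun a b ha hb => by rw [map_add]; exact add_mem ha hb)
      (fun a i _ => by rw [map_mul, (residue_eq_zero_iff _).2 (hTm i), mul_zero]; exact zero_mem _) z
  exact isSepClosed_of_ringEquiv' (RingEquiv.ofBijective _ ⟨RingHom.injective _, hsurj⟩)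

include hm hf hn hf0 htame hunit hint in
/-- With sufficiently divisible exponents the cover splits over the Kummer algebra. -/
theorem split_kummer (hdvd : ∀ i, DvdAt C (f i) (n i))
    (K' : Type u) [Field K'] [Algebra A' K'] [IsFractionRing A' K'] [Algebra A K'] [IsScalarTower A A' K']
    (L : Type u) [Field L] [Algebra K' L] (g : C →+* L)
    (hg : ∀ a, g (algebraMap A C a) = algebraMap K' L (algebraMap A K' a))
    (hgen : Subfield.closure (Set.range g ∪ Set.range (algebraMap K' L)) = ⊤) :
    Function.Surjective (algebraMap K' L) := by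
  haveI := isRegularLocalRing S _ n hm hf hn
  haveI := isDomain S _ n hm hf hn
  obtain ⟨_, _⟩ := strictHenselian_kummer f S hm n hn
  let G : A' := algebraMap A A' (∏ i, f i)
  letI : CommRing (A' ⊗[A] C) := inferInstance
  letI : Algebra A' (A' ⊗[A] C) := Algebra.TensorProduct.leftAlgebra
  have hincl : ∀ a, (1 : A') ⊗ₜ[A] algebraMap A C a = algebraMap A' (A' ⊗[A] C) (algebraMap A A' a) := fun a =>
    ((Algebra.TensorProduct.includeRight : C →ₐ[A] (A' ⊗[A] C)).commutes a).trans (IsScalarTower.algebraMap_apply A A' (A' ⊗[A] C) a)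
  have hGu : IsUnit (algebraMap A' (A' ⊗[A] C) G) := by
    rw [← hincl]
    exact hunit.map (Algebra.TensorProduct.includeRight : C →ₐ[A] (A' ⊗[A] C))
  have hint' : ∀ z : (A' ⊗[A] C), ∃ k : ℕ, IsIntegral A' (algebraMap A' (A' ⊗[A] C) G ^ k * z) := fun z => by
    induction z using TensorProduct.induction_on with
    | zero => exact ⟨0, by rw [mul_zero]; exact isIntegral_zero⟩
    | add a b ha hb =>
      obtain ⟨k, hk⟩ := ha
      obtain ⟨k', hk'⟩ := hb
      refine ⟨k + k', ?_⟩
      have h : algebraMap A' (A' ⊗[A] C) G ^ (k + k') * (a + b) = algebraMap A' (A' ⊗[A] C) (G ^ k') * (algebraMap A' (A' ⊗[A] C) G ^ k * a)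
          + algebraMap A' (A' ⊗[A] C) (G ^ k) * (algebraMap A' (A' ⊗[A] C) G ^ k' * b) := by rw [map_pow, map_pow]; ring
      rw [h]
      exact (isIntegral_algebraMap.mul hk).add (isIntegral_algebraMap.mul hk')
    | tmul a c =>
      obtain ⟨k, hk⟩ := hint c
      refine ⟨k, ?_⟩
      have h : algebraMap A' (A' ⊗[A] C) G ^ k * (a ⊗ₜ[A] c) =
          algebraMap A' (A' ⊗[A] C) a * ((Algebra.TensorProduct.includeRight : C →ₐ[A] (A' ⊗[A] C))
            (algebraMap A C (∏ i, f i) ^ k * c)) := by
        rw [map_mul, map_pow, Algebra.TensorProduct.includeRight_apply, hincl]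
        rw [show (a ⊗ₜ[A] c : (A' ⊗[A] C)) = algebraMap A' (A' ⊗[A] C) a * ((Algebra.TensorProduct.includeRight : C →ₐ[A] (A' ⊗[A] C)) c) by
          simp [Algebra.TensorProduct.algebraMap_apply]]
        simp only [G, Algebra.TensorProduct.includeRight_apply]
        ring
      rw [h]
      exact isIntegral_algebraMap.mul ((hk.map _).tower_top)
  obtain ⟨Y, e, he⟩ := exists_cover G (A' ⊗[A] C) hGu hint'
  letI : Algebra A L := ((algebraMap K' L).comp (algebraMap A K')).toAlgebra
  letI : Algebra A' L := ((algebraMap K' L).comp (algebraMap A' K')).toAlgebra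
  haveI : IsScalarTower A A' L := IsScalarTower.of_algebraMap_eq (R := A) (S := A') (A := L) fun a =>
    congrArg (algebraMap K' L) (IsScalarTower.algebraMap_apply A A' K' a)
  let g' : (A' ⊗[A] C) →ₐ[A'] L := Algebra.TensorProduct.lift (Algebra.ofId A' L) { g with commutes' := hg }
    fun _ _ => .all _ _
  have hg' : ∀ a c, g' (a ⊗ₜ c) = algebraMap K' L (algebraMap A' K' a) * g c := fun a c => by
    exact Algebra.TensorProduct.lift_tmul _ _ _ a c
  refine surjective_of_unramified G (A' ⊗[A] C) Y e he K' (algebraMap_G_ne_zero f hf0 S hm hf n hn) ?_ L g'.toRingHom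
    (fun a => g'.commutes a) (eq_top_iff.2 (hgen.ge.trans (Subfield.closure_le.2 ?_)))
  · intro y _ hy hGy R _ _ _ _ _ _ _ _ M _ _ _ _ gM hgM hgenM
    obtain ⟨i, hi⟩ := exists_T_mem f S n y hGy
    refine unram_at_T f htame hf0 S hm hf n hn i (hdvd i) K' y (eq_span_T S _ n hm hf hn i y hy hi) R M
      (gM.comp (Algebra.TensorProduct.includeRight : C →ₐ[A] (A' ⊗[A] C)).toRingHom) (fun a => ?_)
      (eq_top_iff.2 (hgenM.ge.trans (Subfield.closure_le.2 ?_)))
    · change gM ((1 : A') ⊗ₜ algebraMap A C a) = _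
      rw [hincl, hgM, ← IsScalarTower.algebraMap_apply A A' K']
    · rintro _ (⟨z, rfl⟩ | ⟨c, rfl⟩)
      · induction z using TensorProduct.induction_on with
        | zero => rw [map_zero]; exact zero_mem _
        | add a b ha hb => rw [map_add]; exact add_mem ha hb
        | tmul a c =>
          rw [show (a ⊗ₜ[A] c : (A' ⊗[A] C)) = algebraMap A' (A' ⊗[A] C) a * ((1 : A') ⊗ₜ c) by
            simp [Algebra.TensorProduct.algebraMap_apply], map_mul, hgM]
          exact mul_mem (Subfield.subset_closure (Or.inr ⟨_, rfl⟩)) (Subfield.subset_closure (Or.inl ⟨c, rfl⟩))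
      · exact Subfield.subset_closure (Or.inr ⟨c, rfl⟩)
  · rintro _ (⟨c, rfl⟩ | ⟨c, rfl⟩)
    · exact Subfield.subset_closure (Or.inl ⟨(1 : A') ⊗ₜ c, by simp [hg']⟩)
    · exact Subfield.subset_closure (Or.inr ⟨c, rfl⟩)

section Descent

variable (m c : Fin r → ℕ)

local notation "B₂" => SGA1.kummerAlg S (fun i => algebraMap A S (f i)) m

/-- The map of Kummer algebras `T_j ↦ T_j ^ c_j`. -/
noncomputable def kummerMap (h : ∀ j, n j = c j * m j) :
    SGA1.kummerAlg S (fun i => algebraMap A S (f i)) m →ₐ[S] A' :=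
  Ideal.Quotient.liftₐ _ (MvPolynomial.aeval fun j => T S (fun i => algebraMap A S (f i)) n j ^ c j) (by
    intro x hx
    refine (Ideal.span_le (I := RingHom.ker (MvPolynomial.aeval fun j =>
      T S (fun i => algebraMap A S (f i)) n j ^ c j))).2 ?_ hx
    rintro _ ⟨j, rfl⟩
    simp only [SetLike.mem_coe, RingHom.mem_ker, map_sub, map_pow, MvPolynomial.aeval_X, MvPolynomial.aeval_C]
    rw [← pow_mul, ← h j, T_pow, sub_self])

omit [HenselianLocalRing S] [IsSepClosed (ResidueField S)] [IsRegularLocalRing S] [Module.Flat A S]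
  [IsRegularLocalRing A] [IsDomain A] [∀ i, (Ideal.span {f i}).IsPrime] in
theorem kummerMap_T (h : ∀ j, n j = c j * m j) (j : Fin r) :
    kummerMap f S n m c h (T S _ m j) = T S _ n j ^ c j := by
  refine (Ideal.Quotient.liftₐ_apply _ _ _ _).trans ?_
  exact (Ideal.Quotient.lift_mk _ _ _).trans (MvPolynomial.aeval_X _ _)

omit [HenselianLocalRing S] [IsSepClosed (ResidueField S)] [IsRegularLocalRing S] [Module.Flat A S]
  [IsRegularLocalRing A] [IsDomain A] [∀ i, (Ideal.span {f i}).IsPrime] in
/-- Modulo `p` the Kummer algebra with exponents `n` is purely inseparable over the smaller one. -/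
theorem exists_pow_eq (h : ∀ j, n j = c j * m j) (p a : ℕ) (hp : p.Prime) (hc : ∀ j, c j ∣ p ^ a) (z : A') :
    ∃ w z', z ^ p ^ a = kummerMap f S n m c h w + (p : A') * z' := by
  refine induction_kummer S _ n (P := fun z => ∃ w z', z ^ p ^ a = kummerMap f S n m c h w + (p : A') * z')
    (fun s => ⟨algebraMap S _ (s ^ p ^ a), 0, by rw [AlgHom.commutes, map_pow, mul_zero, add_zero]⟩) ?_ ?_ z
  · rintro u v ⟨w, u', hu⟩ ⟨w', v', hv⟩
    obtain ⟨t, ht⟩ := exists_add_pow_prime_pow_eq hp u v a
    exact ⟨w + w', u' + v' + u * v * t, by rw [ht, hu, hv, map_add]; ring⟩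
  · rintro u j ⟨w, u', hu⟩
    obtain ⟨d, hd⟩ := hc j
    refine ⟨w * T S _ m j ^ d, u' * T S _ n j ^ p ^ a, ?_⟩
    rw [mul_pow, hu, map_mul, map_pow, kummerMap_T, ← pow_mul, ← hd]
    ring

include hm hf hn hf0 htame hunit hint in
/-- Removing the `p`-part at one index: the cover still splits. -/
theorem split_ppart (hdvd : ∀ i, DvdAt C (f i) (n i)) (h : ∀ j, n j = c j * m j) (hmpos : ∀ j, 1 ≤ m j)
    (i : Fin r) (hmn : ∀ j, j ≠ i → m j = n j) (p a : ℕ) (hp : p.Prime) (hc : ∀ j, c j ∣ p ^ a)
    (hpS : ¬ IsUnit ((p : ℕ) : S)) (hpA : ((p : ℕ) : A) ∉ Ideal.span {f i})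
    (K₂ : Type u) [Field K₂] [Algebra (SGA1.kummerAlg S (fun i => algebraMap A S (f i)) m) K₂]
    [IsFractionRing (SGA1.kummerAlg S (fun i => algebraMap A S (f i)) m) K₂] [Algebra A K₂]
    [IsScalarTower A (SGA1.kummerAlg S (fun i => algebraMap A S (f i)) m) K₂]
    (L : Type u) [Field L] [Algebra K₂ L] [FiniteDimensional K₂ L] [Algebra.IsSeparable K₂ L] (g : C →+* L)
    (hg : ∀ a, g (algebraMap A C a) = algebraMap K₂ L (algebraMap A K₂ a))
    (hgen : Subfield.closure (Set.range g ∪ Set.range (algebraMap K₂ L)) = ⊤) :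
    Function.Surjective (algebraMap K₂ L) := by
  classical
  haveI : IsRegularLocalRing B₂ := isRegularLocalRing S _ m hm hf hmpos
  haveI : IsDomain B₂ := isDomain S _ m hm hf hmpos
  haveI := isRegularLocalRing S _ n hm hf hn
  haveI := isDomain S _ n hm hf hn
  obtain ⟨_, _⟩ := finite_free S (fun i => algebraMap A S (f i)) n hn
  obtain ⟨_, _⟩ := finite_free S (fun i => algebraMap A S (f i)) m hmpos
  let φ := kummerMap f S n m c h
  letI : Algebra B₂ A' := φ.toRingHom.toAlgebra
  haveI : IsScalarTower S B₂ A' := IsScalarTower.of_algebraMap_eq fun s => (φ.commutes s).symm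
  have hφA : ∀ b : A, φ (algebraMap A B₂ b) = algebraMap A A' b := fun b => by
    rw [IsScalarTower.algebraMap_apply A S B₂, AlgHom.commutes, ← IsScalarTower.algebraMap_apply]
  haveI : Algebra.IsIntegral B₂ A' := Algebra.IsIntegral.tower_top (R := S)
  have hinjφ : Function.Injective (algebraMap B₂ A') := by
    rw [RingHom.injective_iff_ker_eq_bot]
    haveI : Algebra.IsIntegral S B₂ := Algebra.IsIntegral.of_finite S B₂
    haveI : (RingHom.ker (algebraMap B₂ A')).IsPrime := RingHom.ker_isPrime _
    refine Ideal.eq_bot_of_comap_eq_bot (R := S) ?_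
    rw [eq_bot_iff]
    intro s hs
    have h0 : algebraMap S A' s = 0 := by
      rw [IsScalarTower.algebraMap_apply S B₂ A']; exact hs
    exact algebraMap_injective S _ n hm hn (h0.trans (map_zero _).symm)
  let K' := FractionRing A'
  haveI : IsScalarTower A A' K' := inferInstance
  have hinjK : Function.Injective ((algebraMap A' K').comp (algebraMap B₂ A')) :=
    (IsFractionRing.injective A' K').comp hinjφ
  letI : Algebra K₂ K' := (IsFractionRing.lift (A := B₂) (K := K₂) hinjK).toAlgebra
  have hK₂ : ∀ z, algebraMap K₂ K' (algebraMap B₂ K₂ z) = algebraMap A' K' (φ z) := fun z =>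
    IsFractionRing.lift_algebraMap hinjK z
  -- embed `L` into `K'`
  obtain ⟨M, hM⟩ := Ideal.exists_maximal (K' ⊗[K₂] L)
  letI := Ideal.Quotient.field M
  let Ω := (K' ⊗[K₂] L) ⧸ M
  let gL : L →+* Ω := (Ideal.Quotient.mk M).comp
    (Algebra.TensorProduct.includeRight : L →ₐ[K₂] K' ⊗[K₂] L).toRingHom
  have hgL : ∀ x : K₂, gL (algebraMap K₂ L x) = algebraMap K' Ω (algebraMap K₂ K' x) := fun x =>
    congrArg (Ideal.Quotient.mk M) ((Algebra.TensorProduct.includeRight : L →ₐ[K₂] K' ⊗[K₂] L).commutes x)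
  have hKA : ∀ b : A, algebraMap K₂ K' (algebraMap A K₂ b) = algebraMap A K' b := fun b => by
    rw [IsScalarTower.algebraMap_apply A B₂ K₂, hK₂, hφA, ← IsScalarTower.algebraMap_apply A A' K']
  have hsurj := split_kummer f htame hf0 hunit hint S hm hf n hn hdvd K' Ω (gL.comp g)
    (fun b => by rw [RingHom.comp_apply, hg, hgL, hKA]) (by
      rw [eq_top_iff]
      intro z hz
      clear hz
      obtain ⟨z, rfl⟩ := Ideal.Quotient.mk_surjective z
      induction z using TensorProduct.induction_on with
      | zero => rw [map_zero]; exact zero_mem _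
      | add u v hu hv => rw [map_add]; exact add_mem hu hv
      | tmul u v =>
        rw [show (u ⊗ₜ[K₂] v : K' ⊗[K₂] L) = algebraMap K' _ u * ((1 : K') ⊗ₜ v) by
          simp [Algebra.TensorProduct.algebraMap_apply], map_mul]
        refine mul_mem (Subfield.subset_closure (Or.inr ⟨u, rfl⟩)) ?_
        have hv : v ∈ (⊤ : Subfield L) := Subfield.mem_top v
        rw [← hgen] at hv
        have hmap := (Subfield.mem_map (f := gL)).2 ⟨v, hv, rfl⟩
        rw [RingHom.map_field_closure] at hmap
        refine (Subfield.closure_le.2 ?_) hmap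
        rintro _ ⟨_, ⟨w, rfl⟩ | ⟨x, rfl⟩, rfl⟩
        · exact Subfield.subset_closure (Or.inl ⟨w, rfl⟩)
        · exact Subfield.subset_closure (Or.inr ⟨_, (hgL x).symm⟩))
  let e := RingEquiv.ofBijective (algebraMap K' Ω) ⟨(algebraMap K' Ω).injective, hsurj⟩
  let j : L →+* K' := e.symm.toRingHom.comp gL
  have hj : ∀ x : K₂, j (algebraMap K₂ L x) = algebraMap K₂ K' x := fun x => by
    change e.symm (gL (algebraMap K₂ L x)) = _
    rw [hgL]
    exact e.symm_apply_apply _
  -- a height one prime over `p`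
  have hp0 : (p : B₂) ≠ 0 := fun h0 => hpA (by
    have h1 : algebraMap A B₂ (p : A) = algebraMap A B₂ 0 := by rw [map_natCast, map_zero]; exact h0
    rw [injective_kummer f hf0 S hm hf m hmpos h1]
    exact zero_mem _)
  have hpu : ¬ IsUnit (p : B₂) := fun hu => hpS (by
    haveI : Algebra.IsIntegral S B₂ := Algebra.IsIntegral.of_finite S B₂
    have h1 : (maximalIdeal B₂).comap (algebraMap S B₂) = maximalIdeal S :=
      IsLocalRing.eq_maximalIdeal (Ideal.isMaximal_comap_of_isIntegral_of_isMaximal _)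
    by_contra hnu
    have h2 : ((p : ℕ) : S) ∈ maximalIdeal S := hnu
    rw [← h1, Ideal.mem_comap, map_natCast] at h2
    exact h2 hu)
  obtain ⟨y, hy⟩ := Ideal.nonempty_minimalPrimes (I := Ideal.span {(p : B₂)})
    (mt Ideal.span_singleton_eq_top.1 hpu)
  haveI : y.IsPrime := hy.1.1
  have hpy : (p : B₂) ∈ y := hy.1.2 (Ideal.mem_span_singleton_self _)
  have hy1 : y.height = 1 := by
    refine le_antisymm (Ideal.height_le_one_of_isPrincipal_of_mem_minimalPrimes _ _ hy) ?_
    rw [ENat.one_le_iff_ne_zero]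
    intro h0
    have hb : y = ⊥ := by
      by_contra hne
      have := Ideal.height_strict_mono_of_isPrime (bot_lt_iff_ne_bot.2 hne)
      rw [h0] at this
      exact absurd this (zero_le).not_gt
    rw [hb, Ideal.mem_bot] at hpy
    exact hp0 hpy
  have hTi : T S (fun i => algebraMap A S (f i)) m i ∉ y := fun hT => hpA (by
    haveI := flat_kummer f S m hmpos
    haveI : Algebra.HasGoingDown A B₂ := Algebra.HasGoingDown.of_flat
    rw [← comap_T S (fun i => algebraMap A S (f i)) m hm hf hmpos (f i) i rfl,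
      ← eq_span_T S _ m hm hf hmpos i y hy1 hT, Ideal.mem_comap, map_natCast]
    exact hpy)
  obtain ⟨R, _, _, _⟩ : ∃ (R : Type u) (_ : CommRing R) (_ : Algebra B₂ R), IsLocalization.AtPrime R y :=
    ⟨Localization.AtPrime y, inferInstance, inferInstance, inferInstance⟩
  haveI : IsDomain R := IsLocalization.isDomain_of_le_nonZeroDivisors _ y.primeCompl_le_nonZeroDivisors
  haveI : IsRegularLocalRing R := by
    haveI := RegLoc.Homological.isRegularLocalRing_localization (R := B₂) y
    exact IsRegularLocalRing.of_ringEquiv (R := Localization.AtPrime y)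
      (IsLocalization.algEquiv y.primeCompl (Localization.AtPrime y) R).toRingEquiv
  haveI : IsDiscreteValuationRing R := by
    have hd : ringKrullDim R = 1 := by
      rw [IsLocalization.AtPrime.ringKrullDim_eq_height y R, hy1]; rfl
    have hnf : ¬ IsField R := fun h => by
      have h0 : ringKrullDim R = 0 := ringKrullDim_eq_zero_of_isField (by exact h)
      rw [hd] at h0
      exact one_ne_zero h0
    have hpr : (maximalIdeal R).IsPrincipal :=
      ((Submodule.spanFinrank_eq_one_iff _).1 (RegLoc.spanFinrank_eq_dim (R := R) (n := 1) (by rw [hd]; rfl))).1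
    exact ((IsDiscreteValuationRing.TFAE R hnf).out 4 0).1 hpr
  letI : Algebra R K₂ := (IsLocalization.lift (M := y.primeCompl) (g := algebraMap B₂ K₂) (S := R)
    fun s => isUnit_iff_ne_zero.2 ((map_ne_zero_iff _ (IsFractionRing.injective B₂ K₂)).2
      fun h0 => s.2 (h0 ▸ y.zero_mem))).toAlgebra
  haveI : IsScalarTower B₂ R K₂ := IsScalarTower.of_algebraMap_eq (R := B₂) (S := R) (A := K₂) fun z =>
    (IsLocalization.lift_eq (M := y.primeCompl) (g := algebraMap B₂ K₂) _ z).symm
  haveI : IsFractionRing R K₂ :=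
    IsFractionRing.isFractionRing_of_isDomain_of_isLocalization y.primeCompl R K₂
  -- `L` is unramified at `y`
  have hunr : EtRam.IsUnramifiedExt R ((algebraMap K₂ L).comp (algebraMap R K₂)) := by
    by_cases hG : algebraMap A B₂ (∏ j, f j) ∈ y
    · obtain ⟨j', hj'⟩ := exists_T_mem f S m y hG
      have hne : j' ≠ i := fun e' => hTi (e' ▸ hj')
      exact unram_at_T f htame hf0 S hm hf m hmpos j' (hmn j' hne ▸ hdvd j') K₂ y
        (eq_span_T S _ m hm hf hmpos j' y hy1 hj') R L g hg hgen
    · letI : Algebra A R := ((algebraMap B₂ R).comp (algebraMap A B₂)).toAlgebra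
      haveI : IsScalarTower A R K₂ := IsScalarTower.of_algebraMap_eq (R := A) (S := R) (A := K₂) fun b => by
        rw [IsScalarTower.algebraMap_apply A B₂ K₂, IsScalarTower.algebraMap_apply B₂ R K₂]
        rfl
      exact unram_of_not_mem (∏ j, f j) hint R
        (IsLocalization.map_units R (⟨_, hG⟩ : y.primeCompl)) K₂ L g hg hgen
  -- the integral closure of `R` in `L` is `R`
  letI : Algebra R L := ((algebraMap K₂ L).comp (algebraMap R K₂)).toAlgebra
  haveI : IsScalarTower R K₂ L := IsScalarTower.of_algebraMap_eq fun _ => rfl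
  letI : Algebra B₂ L := ((algebraMap R L).comp (algebraMap B₂ R)).toAlgebra
  haveI : IsScalarTower B₂ R L := IsScalarTower.of_algebraMap_eq (R := B₂) (S := R) (A := L) fun _ => rfl
  obtain ⟨_, _⟩ := etale_integralClosure R K₂ L hunr
  let B := integralClosure R L
  have hB₂L : ∀ z : B₂, j (algebraMap B₂ L z) = algebraMap A' K' (φ z) := fun z => by
    rw [show algebraMap B₂ L z = algebraMap K₂ L (algebraMap B₂ K₂ z) by
      rw [IsScalarTower.algebraMap_apply B₂ R K₂]; rfl, hj, hK₂]
  haveI : IsScalarTower B₂ A' K' := inferInstance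
  let jA : L →ₐ[B₂] K' := { j with commutes' := fun z => (hB₂L z).trans (IsScalarTower.algebraMap_apply B₂ A' K' z).symm }
  haveI : IsIntegrallyClosed A' := by
    haveI := RegLoc.UFD.uniqueFactorizationMonoid A'
    infer_instance
  haveI : IsScalarTower B₂ B₂ L := IsScalarTower.of_algebraMap_eq (R := B₂) (S := B₂) (A := L) fun _ => rfl
  haveI : IsScalarTower B₂ B₂ A' := IsScalarTower.of_algebraMap_eq (R := B₂) (S := B₂) (A := A') fun _ => rfl
  -- `b ^ (p ^ a) ∈ R + pB`
  have hpow : ∀ b : B, ∃ (w : R) (b' : B), b ^ p ^ a = algebraMap R B w + (p : B) * b' := by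
    intro b
    obtain ⟨⟨s, hs⟩, hsb⟩ := IsIntegral.exists_multiple_integral_of_isLocalization y.primeCompl (b : L) b.2
    rw [Submonoid.smul_def, Algebra.smul_def] at hsb
    obtain ⟨z, hz⟩ := (IsIntegrallyClosed.isIntegral_iff (R := A') (K := K')).1 ((hsb.map jA).tower_top (A := A'))
    obtain ⟨w, z', hzw⟩ := exists_pow_eq f S n m c h p a hp hc z
    let β : L := ((algebraMap B₂ L s * (b : L)) ^ p ^ a - algebraMap B₂ L w) / (p : L)
    have hpL : (p : L) ≠ 0 := fun h0 => by
      have h1 : algebraMap K₂ L (algebraMap B₂ K₂ (p : B₂)) = 0 := by rw [map_natCast, map_natCast]; exact h0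
      exact hp0 ((map_eq_zero_iff _ (IsFractionRing.injective B₂ K₂)).1 ((map_eq_zero _).1 h1))
    have hpK : (p : K') ≠ 0 := by
      rw [← map_natCast j]; exact (map_ne_zero j).2 hpL
    have hjβ : j β = algebraMap A' K' z' := by
      have h1 : j ((algebraMap B₂ L s * (b : L))) = algebraMap A' K' z := hz.symm
      rw [map_div₀, map_sub, map_pow, h1, hB₂L, map_natCast, ← map_pow, ← map_sub, hzw,
        add_sub_cancel_left, map_mul, map_natCast, mul_div_cancel_left₀ _ hpK]
    have hβ₂ : IsIntegral B₂ β := by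
      have hz' : IsIntegral B₂ (algebraMap A' K' z') :=
        (Algebra.IsIntegral.isIntegral (R := B₂) z').map (IsScalarTower.toAlgHom B₂ A' K')
      rw [← hjβ] at hz'
      exact (isIntegral_algHom_iff jA jA.injective).1 hz'
    have hβ : IsIntegral R β := hβ₂.tower_top
    obtain ⟨u, hu⟩ := (IsLocalization.map_units R (⟨s, hs⟩ : y.primeCompl)).pow (p ^ a)
    refine ⟨↑u⁻¹ * algebraMap B₂ R w, algebraMap R B ↑u⁻¹ * ⟨β, hβ⟩, Subtype.ext ?_⟩
    push_cast
    have h2 : (algebraMap B₂ L s * (b : L)) ^ p ^ a = algebraMap B₂ L w + (p : L) * β := by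
      rw [mul_div_cancel₀ _ hpL]; ring
    have h3 : algebraMap R L ↑u⁻¹ * (algebraMap B₂ L s) ^ p ^ a = 1 := by
      rw [IsScalarTower.algebraMap_apply B₂ R L, ← map_pow, ← map_mul, ← hu, Units.inv_mul, map_one]
    rw [← IsScalarTower.algebraMap_apply B₂ R L]
    linear_combination (algebraMap R L ↑u⁻¹) * h2 - (b : L) ^ p ^ a * h3
  have hpR : (p : R) ∈ maximalIdeal R := by
    rw [← map_natCast (algebraMap B₂ R)]
    exact (IsLocalization.AtPrime.to_map_mem_maximal_iff R y _).2 hpy
  have hpB : ∀ (N : Ideal B) [N.IsMaximal], (maximalIdeal R) ≤ N.comap (algebraMap R B) ∧ (p : B) ∈ N := by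
    intro N _
    have h1 : N.comap (algebraMap R B) = maximalIdeal R :=
      IsLocalRing.eq_maximalIdeal (Ideal.isMaximal_comap_of_isIntegral_of_isMaximal N)
    exact ⟨h1.ge, by rw [← map_natCast (algebraMap R B)]; exact h1.ge hpR⟩
  have hle : ∀ (N N' : Ideal B) [N.IsMaximal] [N'.IsMaximal], N ≤ N' := by
    intro N N' _ _ b hb
    obtain ⟨w, b', hb'⟩ := hpow b
    have h1 : algebraMap R B w ∈ N := by
      have h2 := sub_mem (Ideal.pow_mem_of_mem N hb _ (pow_pos hp.pos a)) (N.mul_mem_right b' (hpB N).2)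
      rwa [hb', add_sub_cancel_right] at h2
    have h3 : w ∈ maximalIdeal R := by
      rw [← IsLocalRing.eq_maximalIdeal (Ideal.isMaximal_comap_of_isIntegral_of_isMaximal (R := R) N)]
      exact h1
    have h4 : b ^ p ^ a ∈ N' := by
      rw [hb']
      exact N'.add_mem ((hpB N').1 h3) (N'.mul_mem_right b' (hpB N').2)
    exact (inferInstance : N'.IsPrime).mem_of_pow_mem _ h4
  haveI : IsLocalRing B := by
    obtain ⟨N, hN⟩ := Ideal.exists_maximal B
    exact IsLocalRing.of_unique_max_ideal ⟨N, hN, fun N' hN' => le_antisymm (hle N' N) (hle N N')⟩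
  haveI : IsLocalHom (algebraMap R B) := by
    refine ⟨fun x hx => ?_⟩
    by_contra hnx
    exact ((hpB (maximalIdeal B)).1 hnx) hx
  haveI : CharP (ResidueField R) p :=
    (CharP.charP_iff_prime_eq_zero hp).2 (by rw [← map_natCast (residue R)]; exact (residue_eq_zero_iff _).2 hpR)
  haveI : ExpChar (ResidueField R) p := ExpChar.prime hp
  haveI : Algebra.IsSeparable (ResidueField R) (ResidueField B) := inferInstance
  haveI : IsPurelyInseparable (ResidueField R) (ResidueField B) :=
    (isPurelyInseparable_iff_pow_mem (ResidueField R) p).2 fun x => by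
      obtain ⟨b, rfl⟩ := residue_surjective x
      obtain ⟨w, b', hb'⟩ := hpow b
      refine ⟨a, residue R w, ?_⟩
      rw [← map_pow, hb', map_add, map_mul, (residue_eq_zero_iff _).2 (hpB (maximalIdeal B)).2, zero_mul,
        add_zero]
      rfl
  have hres := IsPurelyInseparable.surjective_algebraMap_of_isSeparable (ResidueField R) (ResidueField B)
  have hsurjB : Function.Surjective (algebraMap R B) := by
    have hmax : (maximalIdeal R).map (algebraMap R B) = maximalIdeal B :=
      Algebra.FormallyUnramified.map_maximalIdeal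
    have key : ⊤ ≤ LinearMap.range (Algebra.linearMap R B) ⊔ maximalIdeal R • (⊤ : Submodule R B) := by
      intro b _
      obtain ⟨x, hx⟩ := hres (residue B b)
      obtain ⟨w, rfl⟩ := residue_surjective x
      refine Submodule.mem_sup.2 ⟨algebraMap R B w, ⟨w, rfl⟩, b - algebraMap R B w, ?_, add_sub_cancel _ _⟩
      rw [Ideal.smul_top_eq_map, Submodule.restrictScalars_mem, hmax, ← residue_eq_zero_iff, map_sub, sub_eq_zero]
      exact hx.symm
    exact LinearMap.range_eq_top.1 (top_unique (Submodule.le_of_le_smul_of_le_jacobson_bot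
      Module.Finite.fg_top (maximalIdeal_le_jacobson ⊥) key))
  intro x
  haveI : IsFractionRing B L := integralClosure.isFractionRing_of_finite_extension K₂ L
  obtain ⟨u, v, -, rfl⟩ := IsFractionRing.div_surjective B x
  obtain ⟨u, rfl⟩ := hsurjB u
  obtain ⟨v, rfl⟩ := hsurjB v
  refine ⟨algebraMap R K₂ u / algebraMap R K₂ v, ?_⟩
  rw [map_div₀]
  rfl

end Descent

end Groth.Agent.AbsAbh
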