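import Mathlib
import Groth.Agent.AbsAbh.PPart

/-!
# Exponents for the absolute Abhyankar lemma
-/

set_option autoImplicit false
set_option linter.style.haveILetI false
set_option maxHeartbeats 1600000

universe u

open IsLocalRing
open scoped TensorProduct

namespace Groth.Agent.AbsAbh

/-- A field generated over `K` by the image of an étale algebra is finite separable over `K`. -/
theorem finite_separable_of_generated {A : Type u} [CommRing A] {C : Type u} [CommRing C] [Algebra A C]
    [Algebra.Etale A C] (K : Type u) [Field K] [Algebra A K] (Ω : Type u) [Field Ω] [Algebra K Ω] (g : C →+* Ω)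
    (hg : ∀ a, g (algebraMap A C a) = algebraMap K Ω (algebraMap A K a))
    (hgen : Subfield.closure (Set.range g ∪ Set.range (algebraMap K Ω)) = ⊤) :
    FiniteDimensional K Ω ∧ Algebra.IsSeparable K Ω := by
  letI : Algebra A Ω := ((algebraMap K Ω).comp (algebraMap A K)).toAlgebra
  haveI : IsScalarTower A K Ω := IsScalarTower.of_algebraMap_eq (R := A) (S := K) (A := Ω) fun _ => rfl
  let Φ : K ⊗[A] C →ₐ[K] Ω := Algebra.TensorProduct.lift (Algebra.ofId K Ω) { g with commutes' := hg }
    fun _ _ => .all _ _
  haveI : Module.Finite K (K ⊗[A] C) := Algebra.FormallyUnramified.finite_of_free K (K ⊗[A] C)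
  haveI : Module.Finite K Φ.range := Module.Finite.of_surjective Φ.rangeRestrict.toLinearMap Φ.rangeRestrict_surjective
  let F : Subfield Ω :=
    { Φ.range.toSubring with
      inv_mem' := fun z hz => Subalgebra.inv_mem_of_algebraic Φ.range (x := ⟨z, hz⟩)
        (IsIntegral.isAlgebraic ((IsIntegral.of_finite K (⟨z, hz⟩ : Φ.range)).map Φ.range.val)) }
  have hsurj : Function.Surjective Φ := fun z => by
    have h : z ∈ F := by
      refine (Subfield.closure_le (t := F)).2 ?_ (hgen ▸ Subfield.mem_top z)
      rintro _ (⟨c, rfl⟩ | ⟨c, rfl⟩)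
      · exact ⟨(1 : K) ⊗ₜ c, by simp [Φ]⟩
      · exact Φ.range.algebraMap_mem c
    exact h
  exact ⟨Module.Finite.of_surjective Φ.toLinearMap hsurj,
    ⟨fun z => by obtain ⟨t, rfl⟩ := hsurj z; exact Hens.isSeparable_of_etale_field Φ t⟩⟩

variable {A : Type u} [CommRing A] [IsRegularLocalRing A] [IsDomain A] {r : ℕ} (f : Fin r → A)
  [∀ i, (Ideal.span {f i}).IsPrime] {C : Type u} [CommRing C] [Algebra A C] [Algebra.Etale A C]
  (htame : SGA1.IsTameAlong f (algebraMap A C)) (hf0 : ∀ i, f i ≠ 0)

include hf0 in
/-- The local ring along `f_i` is a discrete valuation ring. -/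
theorem isDVR_localization (i : Fin r) :
    ∃ _ : IsDomain (Localization.AtPrime (Ideal.span {f i})),
      IsDiscreteValuationRing (Localization.AtPrime (Ideal.span {f i})) ∧
      maximalIdeal (Localization.AtPrime (Ideal.span {f i})) =
        Ideal.span {algebraMap A (Localization.AtPrime (Ideal.span {f i})) (f i)} := by
  let P := Ideal.span {f i}
  haveI hd : IsDomain (Localization.AtPrime P) := IsLocalization.isDomain_localization P.primeCompl_le_nonZeroDivisors
  haveI : IsNoetherianRing (Localization.AtPrime P) := IsLocalization.isNoetherianRing P.primeCompl _ inferInstance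
  have hπ : maximalIdeal (Localization.AtPrime P) = Ideal.span {algebraMap A (Localization.AtPrime P) (f i)} := by
    rw [← Localization.AtPrime.map_eq_maximalIdeal (I := P), Ideal.map_span, Set.image_singleton]
  have hπ0 : algebraMap A (Localization.AtPrime P) (f i) ≠ 0 :=
    (map_ne_zero_iff _ (IsLocalization.injective (Localization.AtPrime P) P.primeCompl_le_nonZeroDivisors)).2 (hf0 i)
  have hnf : ¬ IsField (Localization.AtPrime P) := fun h => by
    have hb := IsLocalRing.isField_iff_maximalIdeal_eq.1 h
    rw [hπ, Ideal.span_singleton_eq_bot] at hb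
    exact hπ0 hb
  have hp : (maximalIdeal (Localization.AtPrime P)).IsPrincipal := ⟨_, hπ⟩
  haveI : IsDiscreteValuationRing (Localization.AtPrime P) :=
    ((IsDiscreteValuationRing.TFAE (Localization.AtPrime P) hnf).out 4 0).1 hp
  exact ⟨hd, inferInstance, hπ⟩

include hf0 in
/-- Finitely many ramification indices at one generic point. -/
theorem exists_dvd_at (i : Fin r) (q : Ideal C) [q.IsPrime] (hq : Ideal.comap (algebraMap A C) q = ⊥) :
    ∃ N, 1 ≤ N ∧ ∀ (V : ValuationSubring q.ResidueField)
      (hV : EtRam.Dominates (Localization.AtPrime (Ideal.span {f i}))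
        (SGA1.genericResidueMap (algebraMap A C) (Ideal.span {f i}) q hq) V),
      letI : Algebra (Localization.AtPrime (Ideal.span {f i})) V :=
        (RingHom.codRestrict (SGA1.genericResidueMap (algebraMap A C) (Ideal.span {f i}) q hq) V hV.1).toAlgebra
      Ideal.ramificationIdx' (maximalIdeal (Localization.AtPrime (Ideal.span {f i}))) (maximalIdeal V) ∣ N := by
  classical
  obtain ⟨_, _, hπ⟩ := isDVR_localization f hf0 i
  let K := FractionRing A
  letI : Algebra K q.ResidueField := (genMap K q hq).toAlgebra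
  obtain ⟨_, _⟩ := finite_separable K q hq
  letI : Algebra (Localization.AtPrime (Ideal.span {f i})) K := (IsLocalization.lift (M := (Ideal.span {f i}).primeCompl)
    (g := algebraMap A K) (S := Localization.AtPrime (Ideal.span {f i}))
    fun s => isUnit_iff_ne_zero.2 ((map_ne_zero_iff _ (IsFractionRing.injective A K)).2
      fun h0 => s.2 (h0 ▸ Ideal.zero_mem _))).toAlgebra
  haveI : IsScalarTower A (Localization.AtPrime (Ideal.span {f i})) K :=
    IsScalarTower.of_algebraMap_eq (R := A) (S := Localization.AtPrime (Ideal.span {f i})) (A := K) fun a =>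
      (IsLocalization.lift_eq (M := (Ideal.span {f i}).primeCompl) (g := algebraMap A K) _ a).symm
  haveI : IsFractionRing (Localization.AtPrime (Ideal.span {f i})) K :=
    IsFractionRing.isFractionRing_of_isDomain_of_isLocalization (Ideal.span {f i}).primeCompl _ K
  have hmap : (algebraMap K q.ResidueField).comp (algebraMap (Localization.AtPrime (Ideal.span {f i})) K) =
      SGA1.genericResidueMap (algebraMap A C) (Ideal.span {f i}) q hq :=
    IsLocalization.ringHom_ext (Ideal.span {f i}).primeCompl (RingHom.ext fun a => by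
      simp only [RingHom.comp_apply]
      rw [← IsScalarTower.algebraMap_apply A (Localization.AtPrime (Ideal.span {f i})) K]
      exact (genMap_algebraMap K q hq a).trans
        (IsLocalization.lift_eq (SGA1.isUnit_genericResidue (algebraMap A C) _ q hq) a).symm)
  have hfin := finite_dominating (Localization.AtPrime (Ideal.span {f i})) K q.ResidueField
  rw [hmap] at hfin
  haveI := hfin
  let X := {V : ValuationSubring q.ResidueField // EtRam.Dominates (Localization.AtPrime (Ideal.span {f i}))
    (SGA1.genericResidueMap (algebraMap A C) (Ideal.span {f i}) q hq) V}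
  haveI : Fintype X := Fintype.ofFinite X
  let idx : X → ℕ := fun x =>
    letI : Algebra (Localization.AtPrime (Ideal.span {f i})) x.1 :=
      (RingHom.codRestrict (SGA1.genericResidueMap (algebraMap A C) (Ideal.span {f i}) q hq) x.1 x.2.1).toAlgebra
    Ideal.ramificationIdx' (maximalIdeal (Localization.AtPrime (Ideal.span {f i}))) (maximalIdeal x.1)
  have hpos : ∀ x, 1 ≤ idx x := fun x => by
    obtain ⟨V, hV⟩ := x
    haveI := EtRamLib.ValTower.isDiscreteValuationRing_of_dominates (Localization.AtPrime (Ideal.span {f i})) K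
      q.ResidueField V (hmap.symm ▸ hV)
    letI : Algebra (Localization.AtPrime (Ideal.span {f i})) V :=
      (RingHom.codRestrict (SGA1.genericResidueMap (algebraMap A C) (Ideal.span {f i}) q hq) V hV.1).toAlgebra
    haveI : IsLocalHom (algebraMap (Localization.AtPrime (Ideal.span {f i})) V) :=
      EtRamLib.ValTower.isLocalHom_of_dominates V hV
    have hinj : Function.Injective (algebraMap (Localization.AtPrime (Ideal.span {f i})) V) := fun a b hab =>
      IsFractionRing.injective (Localization.AtPrime (Ideal.span {f i})) K ((algebraMap K q.ResidueField).injective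
        ((RingHom.congr_fun hmap a).trans ((congrArg Subtype.val hab).trans (RingHom.congr_fun hmap b).symm)))
    obtain ⟨ϖ, hϖ⟩ := IsDiscreteValuationRing.exists_irreducible V
    obtain ⟨e, u, he, -, hidx⟩ := EtRamLib.exists_ramificationIdx hinj
      ((IsDiscreteValuationRing.irreducible_iff_uniformizer _).2 hπ) hϖ
    exact he.trans_eq hidx.symm
  exact ⟨∏ x, idx x, Finset.one_le_prod' fun x _ => hpos x,
    fun V hV => Finset.dvd_prod_of_mem idx (Finset.mem_univ (⟨V, hV⟩ : X))⟩

include hf0 in
/-- Finitely many ramification indices. -/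
theorem exists_dvdAt : ∃ N : Fin r → ℕ, ∀ i, 1 ≤ N i ∧ DvdAt C (f i) (N i) := by
  classical
  suffices h : ∀ i, ∃ N, 1 ≤ N ∧ DvdAt C (f i) N by choose N hN using h; exact ⟨N, hN⟩
  intro i
  let K := FractionRing A
  have hfin : {q : Ideal C | q.IsPrime ∧ Ideal.comap (algebraMap A C) q = ⊥}.Finite := by
    haveI : Module.Finite K (K ⊗[A] C) := Algebra.FormallyUnramified.finite_of_free K (K ⊗[A] C)
    haveI : IsArtinianRing (K ⊗[A] C) := IsArtinianRing.of_finite K (K ⊗[A] C)
    refine (Set.finite_range fun Q : PrimeSpectrum (K ⊗[A] C) =>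
      Q.asIdeal.comap (Algebra.TensorProduct.includeRight : C →ₐ[A] K ⊗[A] C).toRingHom).subset ?_
    rintro q ⟨_, hq⟩
    letI : Algebra K q.ResidueField := (genMap K q hq).toAlgebra
    haveI : IsScalarTower A K q.ResidueField := IsScalarTower.of_algebraMap_eq fun a => by
      rw [IsScalarTower.algebraMap_apply A C q.ResidueField]
      exact (genMap_algebraMap K q hq a).symm
    let Φ : K ⊗[A] C →ₐ[K] q.ResidueField := Algebra.TensorProduct.lift (Algebra.ofId K _)
      (IsScalarTower.toAlgHom A C q.ResidueField) fun _ _ => .all _ _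
    refine ⟨⟨RingHom.ker Φ.toRingHom, RingHom.ker_isPrime _⟩, ?_⟩
    ext c
    simp [Φ]
  haveI := hfin.to_subtype
  let Pts := {q : Ideal C | q.IsPrime ∧ Ideal.comap (algebraMap A C) q = ⊥}
  haveI : Fintype Pts := Fintype.ofFinite Pts
  choose N hN1 hN using fun q : Pts => @exists_dvd_at A _ _ _ r f _ C _ _ _ hf0 i q.1 q.2.1 q.2.2
  refine ⟨∏ q, N q, Finset.one_le_prod' fun q _ => hN1 q, fun q hqp hq V hV => ?_⟩
  exact (hN ⟨q, hqp, hq⟩ V hV).trans (Finset.dvd_prod_of_mem N (Finset.mem_univ _))

variable (S : Type u) [CommRing S] [IsRegularLocalRing S] [Algebra A S] [Module.Flat A S]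
  (hm : ∀ i, algebraMap A S (f i) ∈ maximalIdeal S)
  (hf : LinearIndependent (ResidueField S)
    (fun i => (maximalIdeal S).toCotangent ⟨algebraMap A S (f i), hm i⟩))
  (hunit : IsUnit (algebraMap A C (∏ i, f i)))
  (hint : ∀ c : C, ∃ k : ℕ, IsIntegral A (algebraMap A C (∏ i, f i) ^ k * c))
  [HenselianLocalRing S] [IsSepClosed (ResidueField S)]

include hm hf hf0 htame hunit hint in
/-- The ramification indices of a tame cover are invertible in the residue field. -/
theorem isUnit_ramificationIdx (N : Fin r → ℕ) (hN : ∀ i, 1 ≤ N i) (hNd : ∀ i, DvdAt C (f i) (N i))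
    (i : Fin r) (q : Ideal C) [q.IsPrime] (hq : Ideal.comap (algebraMap A C) q = ⊥)
    (V : ValuationSubring q.ResidueField)
    (hV : EtRam.Dominates (Localization.AtPrime (Ideal.span {f i}))
      (SGA1.genericResidueMap (algebraMap A C) (Ideal.span {f i}) q hq) V) :
    letI : Algebra (Localization.AtPrime (Ideal.span {f i})) V :=
      (RingHom.codRestrict (SGA1.genericResidueMap (algebraMap A C) (Ideal.span {f i}) q hq) V hV.1).toAlgebra
    IsUnit ((Ideal.ramificationIdx' (maximalIdeal (Localization.AtPrime (Ideal.span {f i}))) (maximalIdeal V) : ℕ) :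
      ResidueField S) := by
  classical
  obtain ⟨_, _, hπ⟩ := isDVR_localization f hf0 i
  let K := FractionRing A
  letI : Algebra K q.ResidueField := (genMap K q hq).toAlgebra
  obtain ⟨_, _⟩ := finite_separable K q hq
  letI : Algebra (Localization.AtPrime (Ideal.span {f i})) V :=
    (RingHom.codRestrict (SGA1.genericResidueMap (algebraMap A C) (Ideal.span {f i}) q hq) V hV.1).toAlgebra
  haveI : IsLocalHom (algebraMap (Localization.AtPrime (Ideal.span {f i})) V) :=
    EtRamLib.ValTower.isLocalHom_of_dominates V hV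
  letI : Algebra (Localization.AtPrime (Ideal.span {f i})) K := (IsLocalization.lift (M := (Ideal.span {f i}).primeCompl)
    (g := algebraMap A K) (S := Localization.AtPrime (Ideal.span {f i}))
    fun s => isUnit_iff_ne_zero.2 ((map_ne_zero_iff _ (IsFractionRing.injective A K)).2
      fun h0 => s.2 (h0 ▸ Ideal.zero_mem _))).toAlgebra
  haveI : IsScalarTower A (Localization.AtPrime (Ideal.span {f i})) K :=
    IsScalarTower.of_algebraMap_eq (R := A) (S := Localization.AtPrime (Ideal.span {f i})) (A := K) fun a =>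
      (IsLocalization.lift_eq (M := (Ideal.span {f i}).primeCompl) (g := algebraMap A K) _ a).symm
  haveI : IsFractionRing (Localization.AtPrime (Ideal.span {f i})) K :=
    IsFractionRing.isFractionRing_of_isDomain_of_isLocalization (Ideal.span {f i}).primeCompl _ K
  have hmap : (algebraMap K q.ResidueField).comp (algebraMap (Localization.AtPrime (Ideal.span {f i})) K) =
      SGA1.genericResidueMap (algebraMap A C) (Ideal.span {f i}) q hq :=
    IsLocalization.ringHom_ext (Ideal.span {f i}).primeCompl (RingHom.ext fun a => by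
      simp only [RingHom.comp_apply]
      rw [← IsScalarTower.algebraMap_apply A (Localization.AtPrime (Ideal.span {f i})) K]
      exact (genMap_algebraMap K q hq a).trans
        (IsLocalization.lift_eq (SGA1.isUnit_genericResidue (algebraMap A C) _ q hq) a).symm)
  haveI : IsDiscreteValuationRing V := EtRamLib.ValTower.isDiscreteValuationRing_of_dominates
    (Localization.AtPrime (Ideal.span {f i})) K q.ResidueField V (hmap.symm ▸ hV)
  have hinj : Function.Injective (algebraMap (Localization.AtPrime (Ideal.span {f i})) V) := fun a b hab =>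
    IsFractionRing.injective (Localization.AtPrime (Ideal.span {f i})) K ((algebraMap K q.ResidueField).injective
      ((RingHom.congr_fun hmap a).trans ((congrArg Subtype.val hab).trans (RingHom.congr_fun hmap b).symm)))
  have hirr := (IsDiscreteValuationRing.irreducible_iff_uniformizer _).2 hπ
  obtain ⟨ϖ, hϖ⟩ := IsDiscreteValuationRing.exists_irreducible V
  obtain ⟨e, u, he, hu, hidx⟩ := EtRamLib.exists_ramificationIdx hinj hirr hϖ
  rw [hidx]
  by_contra hnu
  have he0 : (e : ResidueField S) = 0 := not_ne_iff.1 fun h => hnu (isUnit_iff_ne_zero.2 h)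
  let p := ringChar (ResidueField S)
  haveI : CharP (ResidueField S) p := ringChar.charP _
  have hpe : p ∣ e := (CharP.cast_eq_zero_iff (ResidueField S) p e).1 he0
  have hp : p.Prime := (CharP.char_is_prime_or_zero (ResidueField S) p).resolve_right fun h => by
    rw [h, zero_dvd_iff] at hpe
    omega
  have hpS : ¬ IsUnit ((p : ℕ) : S) := fun hu => by
    have := hu.map (residue S)
    rw [map_natCast, CharP.cast_eq_zero] at this
    exact not_isUnit_zero this
  haveI hloc := EtRamLib.ValTower.isLocalHom_of_dominates V hV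
  obtain ⟨hsep, htp⟩ := htame i q hq V hV
  by_cases hpA : ((p : ℕ) : A) ∈ Ideal.span {f i}
  · haveI : CharP (ResidueField (Localization.AtPrime (Ideal.span {f i}))) p :=
      (CharP.charP_iff_prime_eq_zero hp).2 (by
        rw [← map_natCast (residue (Localization.AtPrime (Ideal.span {f i}))), residue_eq_zero_iff,
          ← map_natCast (algebraMap A (Localization.AtPrime (Ideal.span {f i})))]
        exact (IsLocalization.AtPrime.to_map_mem_maximal_iff _ (Ideal.span {f i}) _).2 hpA)
    exact htp p hp inferInstance (hidx ▸ hpe)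
  obtain ⟨a, mi, hmi, hNi⟩ := Nat.exists_eq_pow_mul_and_not_dvd (Nat.one_le_iff_ne_zero.1 (hN i)) p hp.ne_one
  let m : Fin r → ℕ := Function.update N i mi
  let c : Fin r → ℕ := fun j => if j = i then p ^ a else 1
  have hNm : ∀ j, N j = c j * m j := fun j => by
    rcases eq_or_ne j i with rfl | hj
    · simp [c, m, ← hNi]
    · simp [c, m, hj]
  have hmne : ∀ j, j ≠ i → m j = N j := fun j hj => by simp [m, hj]
  have hmpos : ∀ j, 1 ≤ m j := fun j => by
    refine Nat.one_le_iff_ne_zero.2 fun h0 => ?_
    have h := hNm j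
    rw [h0, mul_zero] at h
    exact Nat.one_le_iff_ne_zero.1 (hN j) h
  have hc : ∀ j, c j ∣ p ^ a := fun j => by simp only [c]; split <;> simp
  haveI := isRegularLocalRing S _ m hm hf hmpos
  haveI := isDomain S _ m hm hf hmpos
  let B := SGA1.kummerAlg S (fun i => algebraMap A S (f i)) m
  let y : Ideal B := Ideal.span {T S (fun i => algebraMap A S (f i)) m i}
  haveI : y.IsPrime := isPrime_T S _ m hm hf hmpos i
  obtain ⟨R, _, _, _, _, _, hRmax⟩ : ∃ (R : Type u) (_ : CommRing R) (_ : Algebra B R)
      (_ : IsLocalization.AtPrime R y) (_ : IsDomain R) (_ : IsDiscreteValuationRing R),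
      maximalIdeal R = Ideal.span {algebraMap B R (T S (fun i => algebraMap A S (f i)) m i)} := by
    obtain ⟨_, _, h⟩ := isDVR_T S (fun i => algebraMap A S (f i)) m hm hf hmpos i
    exact ⟨Localization.AtPrime y, inferInstance, inferInstance, inferInstance, inferInstance, inferInstance, h⟩
  haveI := flat_kummer f S m hmpos
  haveI : Algebra.HasGoingDown A B := Algebra.HasGoingDown.of_flat
  have hcomap := comap_T S (fun i => algebraMap A S (f i)) m hm hf hmpos (f i) i rfl
  let ι : Localization.AtPrime (Ideal.span {f i}) →+* R := IsLocalization.lift (M := (Ideal.span {f i}).primeCompl)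
    (g := (algebraMap B R).comp (algebraMap A B)) fun s => IsLocalization.map_units R
      (⟨algebraMap A B s, fun hs => s.2 (hcomap.le hs)⟩ : y.primeCompl)
  have hι : ∀ b, ι (algebraMap A _ b) = algebraMap B R (algebraMap A B b) := fun b => IsLocalization.lift_eq _ b
  haveI : IsLocalHom ι := by
    refine ⟨fun x hx => ?_⟩
    obtain ⟨b, s, rfl⟩ := IsLocalization.exists_mk'_eq (Ideal.span {f i}).primeCompl x
    rw [IsLocalization.AtPrime.isUnit_mk'_iff _ (Ideal.span {f i}) b s]
    intro hb
    have h1 : IsUnit (ι (algebraMap A _ b)) := by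
      rw [← IsLocalization.mk'_spec (Localization.AtPrime (Ideal.span {f i})) b s, map_mul]
      refine hx.mul ?_
      rw [hι]
      exact IsLocalization.map_units R (⟨_, fun hs => s.2 (hcomap.le hs)⟩ : y.primeCompl)
    rw [hι, IsLocalization.AtPrime.isUnit_to_map_iff R y] at h1
    exact h1 (hcomap.ge hb)
  have hιinj : Function.Injective ι := by
    refine (injective_iff_map_eq_zero ι).2 fun x hx => ?_
    obtain ⟨b, s, rfl⟩ := IsLocalization.exists_mk'_eq (Ideal.span {f i}).primeCompl x
    have h1 : ι (algebraMap A _ b) = 0 := by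
      rw [← IsLocalization.mk'_spec (Localization.AtPrime (Ideal.span {f i})) b s, map_mul, hx, zero_mul]
    rw [hι] at h1
    have h2 := injective_kummer f hf0 S hm hf m hmpos
      ((IsLocalization.injective R y.primeCompl_le_nonZeroDivisors (h1.trans (map_zero _).symm)).trans
        (map_zero (algebraMap A B)).symm)
    rw [h2, IsLocalization.mk'_zero]
  letI : Algebra (Localization.AtPrime (Ideal.span {f i})) R := ι.toAlgebra
  haveI : Module.IsTorsionFree (Localization.AtPrime (Ideal.span {f i})) R :=
    Module.isTorsionFree_iff_algebraMap_injective.2 hιinj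
  haveI : IsLocalHom (algebraMap (Localization.AtPrime (Ideal.span {f i})) R) := ‹IsLocalHom ι›
  let k₀ := ResidueField (Localization.AtPrime (Ideal.span {f i}))
  let Ω₀ := AlgebraicClosure (ResidueField R)
  haveI := hsep
  let τV : ResidueField V →ₐ[k₀] Ω₀ := IsAlgClosed.lift
  let χV : V →ₐ[Localization.AtPrime (Ideal.span {f i})] Ω₀ :=
    (τV.restrictScalars (Localization.AtPrime (Ideal.span {f i}))).comp (IsScalarTower.toAlgHom _ V (ResidueField V))
  let χR : R →ₐ[Localization.AtPrime (Ideal.span {f i})] Ω₀ :=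
    (IsScalarTower.toAlgHom _ (ResidueField R) Ω₀).comp (IsScalarTower.toAlgHom _ R (ResidueField R))
  let TT := V ⊗[Localization.AtPrime (Ideal.span {f i})] R
  let χ : TT →ₐ[Localization.AtPrime (Ideal.span {f i})] Ω₀ := Algebra.TensorProduct.lift χV χR fun _ _ => .all _ _
  let Q := RingHom.ker χ.toRingHom
  haveI : Q.IsPrime := RingHom.ker_isPrime _
  haveI : Module.Flat V TT := inferInstance
  haveI : Algebra.HasGoingDown V TT := Algebra.HasGoingDown.of_flat
  haveI : Q.LiesOver (Q.comap (algebraMap V TT)) := ⟨rfl⟩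
  obtain ⟨P, hPQ, _, hPo⟩ :=
    Ideal.exists_ideal_le_liesOver_of_le (q := Q.comap (algebraMap V TT)) Q (bot_le (a := Q.comap (algebraMap V TT)))
  obtain ⟨Ω, _, toΩ, htoΩ, hdiv⟩ : ∃ (Ω : Type u) (_ : Field Ω) (toΩ : TT →+* Ω),
      (∀ z, toΩ z = 0 ↔ z ∈ P) ∧ ∀ x, ∃ z w, x = toΩ z / toΩ w := by
    refine ⟨P.ResidueField, inferInstance, algebraMap TT P.ResidueField,
      fun z => Ideal.algebraMap_residueField_eq_zero, fun x => ?_⟩
    obtain ⟨z, w, -, rfl⟩ := IsFractionRing.div_surjective (TT ⧸ P) x
    obtain ⟨z, rfl⟩ := Ideal.Quotient.mk_surjective z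
    obtain ⟨w, rfl⟩ := Ideal.Quotient.mk_surjective w
    exact ⟨z, w, by rw [Ideal.algebraMap_quotient_residueField_mk, Ideal.algebraMap_quotient_residueField_mk]⟩
  let jV : V →+* Ω := toΩ.comp (algebraMap V TT)
  have hjV : Function.Injective jV := (injective_iff_map_eq_zero _).2 fun v hv => by
    have h : v ∈ P.comap (algebraMap V TT) := (htoΩ _).1 hv
    rw [show P.comap (algebraMap V TT) = ⊥ from hPo.over.symm, Ideal.mem_bot] at h
    exact h
  let jR : R →+* Ω := toΩ.comp
    (Algebra.TensorProduct.includeRight : R →ₐ[Localization.AtPrime (Ideal.span {f i})] TT).toRingHom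
  have hcomm : ∀ x, jR (ι x) = jV (algebraMap _ V x) := fun x => congrArg toΩ
    ((((Algebra.TensorProduct.includeRight : R →ₐ[Localization.AtPrime (Ideal.span {f i})] TT)).commutes x).trans
      (IsScalarTower.algebraMap_apply _ V TT x))
  have hTmax : algebraMap B R (T S _ m i) ∈ maximalIdeal R :=
    (IsLocalization.AtPrime.to_map_mem_maximal_iff R y _).2 (Ideal.mem_span_singleton_self _)
  have hπval : ι (algebraMap A _ (f i)) = algebraMap B R (T S _ m i) ^ m i := by
    rw [hι, ← map_pow, T_pow, IsScalarTower.algebraMap_apply A S B]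
  have hjR : Function.Injective jR := by
    rw [RingHom.injective_iff_ker_eq_bot]
    by_contra hne
    haveI : (RingHom.ker jR).IsPrime := RingHom.ker_isPrime _
    have hmax := IsLocalRing.eq_maximalIdeal ((inferInstance : (RingHom.ker jR).IsPrime).isMaximal_of_ne_bot hne)
    have h1 : jR (ι (algebraMap A _ (f i))) = 0 := by
      rw [hπval, map_pow]
      have h2 : jR (algebraMap B R (T S _ m i)) = 0 := by
        rw [← RingHom.mem_ker, hmax]; exact hTmax
      rw [h2, zero_pow (Nat.one_le_iff_ne_zero.1 (hmpos i))]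
    rw [hcomm, map_eq_zero_iff _ hjV, map_eq_zero_iff _ hinj] at h1
    exact hirr.ne_zero h1
  let gq : q.ResidueField →+* Ω := IsFractionRing.lift (A := V) hjV
  have hgq : ∀ v : V, gq (v : q.ResidueField) = jV v := fun v => IsFractionRing.lift_algebraMap hjV v
  let K₂ := FractionRing B
  haveI : IsScalarTower A B K₂ := inferInstance
  letI : Algebra R K₂ := (IsLocalization.lift (M := y.primeCompl) (g := algebraMap B K₂) (S := R)
    fun s => isUnit_iff_ne_zero.2 ((map_ne_zero_iff _ (IsFractionRing.injective B K₂)).2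
      fun h0 => s.2 (h0 ▸ y.zero_mem))).toAlgebra
  haveI : IsScalarTower B R K₂ := IsScalarTower.of_algebraMap_eq (R := B) (S := R) (A := K₂) fun z =>
    (IsLocalization.lift_eq (M := y.primeCompl) (g := algebraMap B K₂) _ z).symm
  haveI : IsFractionRing R K₂ :=
    IsFractionRing.isFractionRing_of_isDomain_of_isLocalization y.primeCompl R K₂
  letI : Algebra K₂ Ω := (IsFractionRing.lift (A := R) (K := K₂) hjR).toAlgebra
  have hK₂Ω : ∀ x : R, algebraMap K₂ Ω (algebraMap R K₂ x) = jR x := fun x => IsFractionRing.lift_algebraMap hjR x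
  let g : C →+* Ω := gq.comp (algebraMap C q.ResidueField)
  have hg : ∀ b, g (algebraMap A C b) = algebraMap K₂ Ω (algebraMap A K₂ b) := fun b => by
    rw [IsScalarTower.algebraMap_apply A B K₂, IsScalarTower.algebraMap_apply B R K₂, hK₂Ω, ← hι, hcomm, ← hgq]
    refine congrArg gq ?_
    exact (IsLocalization.lift_eq (SGA1.isUnit_genericResidue (algebraMap A C) (Ideal.span {f i}) q hq) b).symm
  have hgen : Subfield.closure (Set.range g ∪ Set.range (algebraMap K₂ Ω)) = ⊤ := by
    set F := Subfield.closure (Set.range g ∪ Set.range (algebraMap K₂ Ω))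
    have hL : ∀ x : q.ResidueField, gq x ∈ F := fun x => by
      obtain ⟨c, d, -, rfl⟩ := IsFractionRing.div_surjective (C ⧸ q) x
      obtain ⟨c, rfl⟩ := Ideal.Quotient.mk_surjective c
      obtain ⟨d, rfl⟩ := Ideal.Quotient.mk_surjective d
      rw [map_div₀, Ideal.algebraMap_quotient_residueField_mk, Ideal.algebraMap_quotient_residueField_mk]
      exact div_mem (Subfield.subset_closure (Or.inl ⟨c, rfl⟩)) (Subfield.subset_closure (Or.inl ⟨d, rfl⟩))
    have hT : ∀ z : TT, toΩ z ∈ F := fun z => by
      induction z using TensorProduct.induction_on with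
      | zero => rw [map_zero]; exact zero_mem _
      | add a b ha hb => rw [map_add]; exact add_mem ha hb
      | tmul v x =>
        rw [show (v ⊗ₜ x : TT) = algebraMap V TT v *
            (Algebra.TensorProduct.includeRight : R →ₐ[Localization.AtPrime (Ideal.span {f i})] TT) x by
          simp [TT, Algebra.TensorProduct.algebraMap_apply], map_mul]
        refine mul_mem ?_ ?_
        · rw [show toΩ (algebraMap V TT v) = gq v from (hgq v).symm]; exact hL _
        · rw [show toΩ ((Algebra.TensorProduct.includeRight : R →ₐ[Localization.AtPrime (Ideal.span {f i})] TT) x) =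
            algebraMap K₂ Ω (algebraMap R K₂ x) from (hK₂Ω x).symm]
          exact Subfield.subset_closure (Or.inr ⟨_, rfl⟩)
    rw [eq_top_iff]
    intro x hx
    clear hx
    obtain ⟨z, w, rfl⟩ := hdiv x
    exact div_mem (hT z) (hT w)
  obtain ⟨_, _⟩ := finite_separable_of_generated K₂ Ω g hg hgen
  have hsurj := split_ppart f htame hf0 hunit hint S hm hf N hN m c hNd hNm hmpos i hmne p a hp hc hpS hpA
    K₂ Ω g hg hgen
  -- `V` lands in `R`
  have hval : ∀ v : V, ∃ x : R, jR x = jV v := fun v => by
    obtain ⟨x, hx⟩ := hsurj (jV v)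
    rcases (ValuationRing.isInteger_or_isInteger R x) with ⟨w, hw⟩ | ⟨w, hw⟩
    · exact ⟨w, by rw [← hK₂Ω, hw, hx]⟩
    · rcases eq_or_ne (jV v) 0 with h0 | h0
      · exact ⟨0, by rw [map_zero, h0]⟩
      have hwv : jR w * jV v = 1 := by
        rw [← hK₂Ω, hw, ← hx, ← map_mul, inv_mul_cancel₀ (fun e => h0 (by rw [← hx, e, map_zero])), map_one]
      by_cases hwu : IsUnit w
      · obtain ⟨w, rfl⟩ := hwu
        refine ⟨↑w⁻¹, ?_⟩
        exact mul_left_cancel₀ (left_ne_zero_of_mul_eq_one hwv)
          ((map_mul jR _ _).symm.trans ((congrArg jR (Units.mul_inv w)).trans ((map_one jR).trans hwv.symm)))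
      · exfalso
        have hmem : (Algebra.TensorProduct.includeRight : R →ₐ[Localization.AtPrime (Ideal.span {f i})] TT) w *
            algebraMap V TT v - 1 ∈ P := by
          rw [← htoΩ, map_sub, map_mul, map_one]
          exact sub_eq_zero.2 hwv
        have hw0 : χR w = 0 := by
          change algebraMap (ResidueField R) Ω₀ (residue R w) = 0
          rw [(residue_eq_zero_iff w).2 hwu, map_zero]
        have hw' : (Algebra.TensorProduct.includeRight : R →ₐ[Localization.AtPrime (Ideal.span {f i})] TT) w ∈ Q := by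
          change χ ((1 : V) ⊗ₜ w) = 0
          rw [Algebra.TensorProduct.lift_tmul, hw0, mul_zero]
        have h1 := sub_mem (Q.mul_mem_right (algebraMap V TT v) hw') (hPQ hmem)
        rw [sub_sub_cancel] at h1
        exact (inferInstance : Q.IsPrime).ne_top ((Ideal.eq_top_iff_one _).2 h1)
  choose ρ hρ using hval
  have hρloc : ρ ϖ ∈ maximalIdeal R := by
    by_contra hnu
    obtain ⟨w, hw⟩ := not_not.1 (fun h => hnu h : ¬ ¬ IsUnit (ρ ϖ))
    have h0 : toΩ ((Algebra.TensorProduct.includeRight : R →ₐ[Localization.AtPrime (Ideal.span {f i})] TT) (ρ ϖ) -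
        algebraMap V TT ϖ) = 0 := by rw [map_sub]; exact sub_eq_zero.2 (hρ ϖ)
    have h1 := hPQ ((htoΩ _).1 h0)
    have h2 : χR (ρ ϖ) - χV ϖ = 0 := by
      have h3 : χ ((Algebra.TensorProduct.includeRight : R →ₐ[Localization.AtPrime (Ideal.span {f i})] TT) (ρ ϖ) -
        algebraMap V TT ϖ) = 0 := h1
      rw [map_sub] at h3
      simpa [χ, TT] using h3
    have hv0 : χV ϖ = 0 := by
      change τV (residue V ϖ) = 0
      rw [(residue_eq_zero_iff ϖ).2 hϖ.not_isUnit, map_zero]
    rw [hv0, sub_zero] at h2
    have h4 : algebraMap (ResidueField R) Ω₀ (residue R (ρ ϖ)) = 0 := h2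
    rw [map_eq_zero, residue_eq_zero_iff] at h4
    exact hnu h4
  have hρ0 : ρ ϖ ≠ 0 := fun h => by
    have h1 := hρ ϖ
    rw [h, map_zero] at h1
    exact hϖ.ne_zero ((map_eq_zero_iff _ hjV).1 h1.symm)
  have hTirr : Irreducible (algebraMap B R (T S _ m i)) :=
    (IsDiscreteValuationRing.irreducible_iff_uniformizer _).2 hRmax
  obtain ⟨d, w, hd⟩ := IsDiscreteValuationRing.eq_unit_mul_pow_irreducible hρ0 hTirr
  have hρu : IsUnit (ρ u) := by
    refine IsUnit.of_mul_eq_one (ρ ↑u⁻¹) (hjR ?_)
    rw [map_mul, hρ, hρ, ← map_mul, Units.mul_inv, map_one, map_one]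
  obtain ⟨wu, hwu⟩ := hρu
  have hkey : ((1 : Rˣ) : R) * algebraMap B R (T S _ m i) ^ m i =
      ((wu * w ^ e : Rˣ) : R) * algebraMap B R (T S _ m i) ^ (d * e) := by
    refine hjR ?_
    rw [Units.val_one, one_mul, ← hπval, hcomm, hu, map_mul, map_pow, Units.val_mul, Units.val_pow_eq_pow_val,
      pow_mul, mul_assoc, ← mul_pow, ← hd, map_mul jR, map_pow jR, hwu, hρ, hρ]
  have hme := IsDiscreteValuationRing.unit_mul_pow_congr_pow hTirr hTirr 1 (wu * w ^ e) _ _ hkey
  refine hmi ?_
  have h : m i = mi := by simp [m]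
  rw [← h, hme]
  exact hpe.mul_left d

include hm hf hf0 htame hunit hint in
/-- There are exponents invertible in the residue field divisible by all ramification indices. -/
theorem exists_exponents :
    ∃ n : Fin r → ℕ, (∀ i, 1 ≤ n i) ∧ (∀ i, IsUnit ((n i : ℕ) : ResidueField S)) ∧ ∀ i, DvdAt C (f i) (n i) := by
  classical
  obtain ⟨N, hN⟩ := exists_dvdAt f (C := C) hf0
  let p := ringChar (ResidueField S)
  haveI : CharP (ResidueField S) p := ringChar.charP _
  rcases CharP.char_is_prime_or_zero (ResidueField S) p with hp | hp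
  swap
  · refine ⟨N, fun i => (hN i).1, fun i => isUnit_iff_ne_zero.2 fun h0 => ?_, fun i => (hN i).2⟩
    rw [CharP.cast_eq_zero_iff (ResidueField S) p, hp, zero_dvd_iff] at h0
    exact Nat.one_le_iff_ne_zero.1 (hN i).1 h0
  choose a mi hmi hNi using fun i => Nat.exists_eq_pow_mul_and_not_dvd (Nat.one_le_iff_ne_zero.1 (hN i).1) p hp.ne_one
  refine ⟨mi, fun i => Nat.one_le_iff_ne_zero.2 fun h => hmi i (h ▸ dvd_zero p), fun i => ?_, fun i q _ hq V hV => ?_⟩
  · exact isUnit_iff_ne_zero.2 fun h0 => hmi i ((CharP.cast_eq_zero_iff (ResidueField S) p (mi i)).1 h0)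
  · have hu := isUnit_ramificationIdx f htame hf0 S hm hf hunit hint N (fun i => (hN i).1) (fun i => (hN i).2) i q hq V hV
    have hd := (hN i).2 q hq V hV
    rw [hNi i] at hd
    refine (Nat.Coprime.pow_right _ (Nat.Coprime.symm ((Nat.Prime.coprime_iff_not_dvd hp).2 fun hpe => ?_))).dvd_of_dvd_mul_left hd
    exact hu.ne_zero ((CharP.cast_eq_zero_iff (ResidueField S) p _).2 hpe)

end Groth.Agent.AbsAbh
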