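import Mathlib
import Groth.Prelude.Def_SGA1
import Groth.Agent.AbsAbh.Exponents
import Groth.Agent.RegLoc.UFD
import Groth.Agent.S2280
import Groth.Agent.EtNormal.Basic
import Groth.Agent.S2743
import Groth.Agent.Hens.Unique
import Groth.Agent.RegLoc.Completion

/-!
# The absolute Abhyankar lemma: covers of complements of normal crossings divisors
-/

set_option autoImplicit false
set_option linter.style.haveILetI false
set_option maxHeartbeats 1600000

universe u

open CategoryTheory CategoryTheory.Limits AlgebraicGeometry IsLocalRing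
open scoped TensorProduct

namespace Groth.Agent.AbsAbh

/-- Linearly independent cotangent vectors stay independent along flat extensions with `m_A S = m_S`. -/
theorem linearIndependent_map {A S : Type u} [CommRing A] [IsRegularLocalRing A] [CommRing S] [IsRegularLocalRing S]
    [Algebra A S] (hdim : ringKrullDim S = ringKrullDim A)
    (hmax : (maximalIdeal A).map (algebraMap A S) = maximalIdeal S) {r : ℕ} (f : Fin r → A)
    (hm : ∀ i, f i ∈ maximalIdeal A)
    (hf : LinearIndependent (ResidueField A) (fun i => (maximalIdeal A).toCotangent ⟨f i, hm i⟩))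
    (hm' : ∀ i, algebraMap A S (f i) ∈ maximalIdeal S) :
    LinearIndependent (ResidueField S) (fun i => (maximalIdeal S).toCotangent ⟨algebraMap A S (f i), hm' i⟩) := by
  classical
  obtain ⟨s, g, hg, hd⟩ := S2921.exists_generators A f hm hf
  have hg' : ∀ j, algebraMap A S (g j) ∈ maximalIdeal S := fun j =>
    hmax ▸ Ideal.mem_map_of_mem _ (hg ▸ Ideal.subset_span (Or.inr ⟨j, rfl⟩))
  let v : Fin r ⊕ Fin s → maximalIdeal S :=
    Sum.elim (fun i => ⟨algebraMap A S (f i), hm' i⟩) (fun j => ⟨algebraMap A S (g j), hg' j⟩)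
  have htop : (⊤ : Submodule S (maximalIdeal S)) ≤ Submodule.span S (Set.range v) := by
    rintro ⟨x, hx⟩ -
    have hx' : x ∈ (Submodule.span S (Set.range v)).map (maximalIdeal S).subtype := by
      rw [Submodule.map_span]
      rw [← hmax, hg, Ideal.map_span] at hx
      refine Submodule.span_mono ?_ hx
      rintro _ ⟨_, ⟨i, rfl⟩ | ⟨j, rfl⟩, rfl⟩
      · exact ⟨v (Sum.inl i), ⟨_, rfl⟩, rfl⟩
      · exact ⟨v (Sum.inr j), ⟨_, rfl⟩, rfl⟩
    obtain ⟨y, hy, hyx⟩ := hx'
    exact (Subtype.ext hyx : y = ⟨x, hx⟩) ▸ hy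
  let w : Fin r ⊕ Fin s → CotangentSpace S := fun k => (maximalIdeal S).toCotangent (v k)
  have hspan : ⊤ ≤ Submodule.span (ResidueField S) (Set.range w) := by
    intro z _
    obtain ⟨x, rfl⟩ := (maximalIdeal S).toCotangent_surjective z
    have h1 := Submodule.mem_map_of_mem (f := (maximalIdeal S).toCotangent) (htop (Submodule.mem_top (x := x)))
    rw [Submodule.map_span, ← Set.range_comp] at h1
    rw [← Submodule.restrictScalars_mem S, Submodule.restrictScalars_span S (ResidueField S) residue_surjective]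
    exact h1
  have hcard : Fintype.card (Fin r ⊕ Fin s) = Module.finrank (ResidueField S) (CotangentSpace S) := by
    have h1 := (IsRegularLocalRing.iff_finrank_cotangentSpace S).1 ‹_›
    rw [hdim, ← hd] at h1
    rw [Fintype.card_sum, Fintype.card_fin, Fintype.card_fin]
    exact_mod_cast h1.symm
  exact (linearIndependent_of_top_le_span_of_card_eq_finrank hspan hcard).comp Sum.inl Sum.inl_injective

section Cover

variable {A : Type u} [CommRing A] (F : A) (V : FEt.Cat ((SGA1.specBasicOpen A F) : Scheme.{u}))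

/-- The structure map of the ring of functions of a cover. -/
noncomputable abbrev coverHom : A →+* Γ(V.left, ⊤) :=
  ((V.hom ≫ (SGA1.specBasicOpen A F).ι).appTop).hom.comp (Scheme.ΓSpecIso (CommRingCat.of A)).inv.hom

/-- A cover of a basic open is affine, étale and integral over the base away from the divisor. -/
theorem cover_facts :
    letI := (coverHom F V).toAlgebra
    ∃ e : V.left ≅ Spec (CommRingCat.of Γ(V.left, ⊤)),
      e.hom ≫ Spec.map (CommRingCat.ofHom (algebraMap A Γ(V.left, ⊤))) = V.hom ≫ (SGA1.specBasicOpen A F).ι ∧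
      Algebra.Etale A Γ(V.left, ⊤) ∧ IsUnit (algebraMap A Γ(V.left, ⊤) F) ∧
      ∀ c : Γ(V.left, ⊤), ∃ k : ℕ, IsIntegral A (algebraMap A Γ(V.left, ⊤) F ^ k * c) := by
  letI := (coverHom F V).toAlgebra
  haveI : IsFinite V.hom := V.prop.1
  haveI : Etale V.hom := V.prop.2
  let U := SGA1.specBasicOpen A F
  let AA := Localization.Away F
  let j : Spec (CommRingCat.of AA) ⟶ Spec (CommRingCat.of A) :=
    Spec.map (CommRingCat.ofHom (algebraMap A AA))
  haveI : IsOpenImmersion j := IsOpenImmersion.of_isLocalization F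
  have hrange : Set.range j = Set.range U.ι := by
    rw [Scheme.Opens.range_ι]
    exact PrimeSpectrum.localization_away_comap_range AA F
  let w := IsOpenImmersion.isoOfRangeEq j U.ι hrange
  have hw : w.hom ≫ U.ι = j := IsOpenImmersion.isoOfRangeEq_hom_fac _ _ _
  let g₁ : V.left ⟶ Spec (CommRingCat.of AA) := V.hom ≫ w.inv
  haveI : IsFinite g₁ := MorphismProperty.comp_mem @IsFinite V.hom w.inv ‹_› inferInstance
  haveI : IsAffine V.left := isAffine_of_isAffineHom g₁
  let g : V.left ⟶ Spec (CommRingCat.of A) := V.hom ≫ U.ι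
  have hg : g = g₁ ≫ j := by
    simp only [g, g₁, ← hw, Category.assoc, Iso.inv_hom_id_assoc]
  haveI : Etale g := inferInstanceAs (Etale (V.hom ≫ U.ι))
  have hmap : V.left.isoSpec.hom ≫ Spec.map (CommRingCat.ofHom (algebraMap A Γ(V.left, ⊤))) = g := by
    obtain ⟨φ, hφ⟩ : ∃ φ, Spec.map φ = V.left.isoSpec.inv ≫ g := ⟨_, Spec.map_preimage _⟩
    have h0 : g = V.left.toSpecΓ ≫ Spec.map φ := by
      rw [hφ]
      exact (Iso.hom_inv_id_assoc V.left.isoSpec g).symm
    have h1 : CommRingCat.ofHom (algebraMap A Γ(V.left, ⊤)) = φ := by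
      change CommRingCat.ofHom (coverHom F V) = φ
      ext a
      change g.appTop.hom ((Scheme.ΓSpecIso (CommRingCat.of A)).inv.hom a) = φ.hom a
      rw [h0, Scheme.Hom.comp_appTop, Scheme.toSpecΓ_appTop]
      have h3 := congrArg (fun t => (Scheme.ΓSpecIso (CommRingCat.of A)).inv ≫ t) (Scheme.ΓSpecIso_naturality φ)
      simp only [Iso.inv_hom_id_assoc] at h3
      exact RingHom.congr_fun (congrArg CommRingCat.Hom.hom h3) a
    rw [h1, hφ, Iso.hom_inv_id_assoc]
  have hmap' : Spec.map (CommRingCat.ofHom (algebraMap A Γ(V.left, ⊤))) = V.left.isoSpec.inv ≫ g := by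
    rw [← hmap, Iso.inv_hom_id_assoc]
  obtain ⟨ψ, hψ⟩ : ∃ ψ, Spec.map ψ = V.left.isoSpec.inv ≫ g₁ := ⟨_, Spec.map_preimage _⟩
  letI : Algebra AA Γ(V.left, ⊤) := ψ.hom.toAlgebra
  haveI : IsScalarTower A AA Γ(V.left, ⊤) := IsScalarTower.of_algebraMap_eq fun a => by
    have h : CommRingCat.ofHom (algebraMap A Γ(V.left, ⊤)) = CommRingCat.ofHom (algebraMap A AA) ≫ ψ := by
      apply Spec.map_injective
      rw [Spec.map_comp, hψ, hmap', hg]
      simp only [Category.assoc]
      rfl
    exact RingHom.congr_fun (congrArg CommRingCat.Hom.hom h) a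
  haveI : Module.Finite AA Γ(V.left, ⊤) := by
    have h : IsFinite (Spec.map ψ) := by rw [hψ]; infer_instance
    exact RingHom.finite_algebraMap.1 ((IsFinite.SpecMap_iff ψ).1 h)
  refine ⟨V.left.isoSpec, hmap, ?_, ?_, fun c => ?_⟩
  · have h : Etale (Spec.map (CommRingCat.ofHom (algebraMap A Γ(V.left, ⊤)))) := by rw [hmap']; infer_instance
    exact RingHom.etale_algebraMap.1 ((HasRingHomProperty.Spec_iff (P := @Etale)).1 h)
  · rw [IsScalarTower.algebraMap_apply A AA Γ(V.left, ⊤)]
    exact (IsLocalization.Away.algebraMap_isUnit F).map _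
  · obtain ⟨⟨_, k, rfl⟩, hk⟩ := IsIntegral.exists_multiple_integral_of_isLocalization (Submonoid.powers F) c
      (IsIntegral.of_finite AA c)
    refine ⟨k, ?_⟩
    rwa [Submonoid.smul_def, Algebra.smul_def, map_pow] at hk

/-- A connected cover of the complement of a divisor in a regular local ring is integral. -/
theorem isDomain_cover [IsRegularLocalRing A] [IsDomain A] [ConnectedSpace V.left] :
    IsDomain Γ(V.left, ⊤) := by
  haveI : IsFinite V.hom := V.prop.1
  haveI : Etale V.hom := V.prop.2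
  let g : V.left ⟶ Spec (CommRingCat.of A) := V.hom ≫ (SGA1.specBasicOpen A F).ι
  haveI : Etale g := inferInstanceAs (Etale (V.hom ≫ (SGA1.specBasicOpen A F).ι))
  haveI : IsLocallyNoetherian V.left := LocallyOfFiniteType.isLocallyNoetherian g
  have hdom : ∀ v : V.left, IsDomain (V.left.presheaf.stalk v) := fun v => by
    refine ((EtNormal.normal_stalk_iff g v).2 ?_).1
    let p : Ideal A := (g v : PrimeSpectrum A).asIdeal
    haveI : p.IsPrime := (g v : PrimeSpectrum A).2
    letI : Algebra A ((Spec (CommRingCat.of A)).presheaf.stalk (g v)) := StructureSheaf.stalkAlgebra (R := A) (g v)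
    haveI : IsLocalization.AtPrime ((Spec (CommRingCat.of A)).presheaf.stalk (g v)) p :=
      StructureSheaf.IsLocalization.to_stalk A (g v)
    haveI := RegLoc.Homological.isRegularLocalRing_localization (R := A) p
    haveI : IsRegularLocalRing ((Spec (CommRingCat.of A)).presheaf.stalk (g v)) :=
      IsRegularLocalRing.of_ringEquiv (R := Localization.AtPrime p)
        (IsLocalization.algEquiv p.primeCompl (Localization.AtPrime p) _).toRingEquiv
    haveI := RegLoc.isDomain ((Spec (CommRingCat.of A)).presheaf.stalk (g v))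
    haveI := RegLoc.UFD.uniqueFactorizationMonoid ((Spec (CommRingCat.of A)).presheaf.stalk (g v))
    exact ⟨inferInstance, inferInstance⟩
  haveI : IsIntegral V.left := (S2280.result V.left).2.2 ⟨‹_›, hdom⟩
  infer_instance

end Cover

variable {A : Type u} [CommRing A] [IsRegularLocalRing A] [IsDomain A] {r : ℕ} (f : Fin r → A)
  (hm : ∀ i, f i ∈ maximalIdeal A)
  (hf : LinearIndependent (ResidueField A) (fun i => (maximalIdeal A).toCotangent ⟨f i, hm i⟩))
  [∀ i, (Ideal.span {f i}).IsPrime]

omit [IsDomain A] [∀ i, (Ideal.span {f i}).IsPrime] in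
include hf in
theorem ne_zero_of_indep (i : Fin r) : f i ≠ 0 := fun h =>
  hf.ne_zero i (by rw [show (⟨f i, hm i⟩ : maximalIdeal A) = 0 from Subtype.ext h, map_zero])

include hm hf in
/-- Exponents prime to the residue characteristic exist. -/
theorem exists_exponents_absolute (C : Type u) [CommRing C] [Algebra A C] [Algebra.Etale A C]
    (htame : SGA1.IsTameAlong f (algebraMap A C)) (hunit : IsUnit (algebraMap A C (∏ i, f i)))
    (hint : ∀ c : C, ∃ k : ℕ, IsIntegral A (algebraMap A C (∏ i, f i) ^ k * c)) :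
    ∃ n : Fin r → ℕ, (∀ i, 1 ≤ n i) ∧ (∀ i, IsUnit ((n i : ℕ) : ResidueField A)) ∧ ∀ i, DvdAt C (f i) (n i) := by
  let S := Hens.StrictHenselization A
  haveI : Hensel.IsStrictHenselization A S := inferInstance
  haveI : IsLocalHom (algebraMap A S) := inferInstance
  haveI : IsRegularLocalRing S := (S2743.result A S).2 ‹_›
  haveI : Module.FaithfullyFlat A S := Hens.faithfullyFlat_of_isStrictHenselization (R := A) S
  haveI : IsSepClosed (ResidueField S) :=
    (Hensel.IsStrictHenselization.isSepClosure (R := A) (S := S)).sep_closed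
  have hmax := Hens.map_maximalIdeal_of_isStrictHenselization (R := A) S
  have hdim : ringKrullDim S = ringKrullDim A := RegLoc.Completion.ringKrullDim_eq_of_flat_of_map_eq A S hmax
  have hm' : ∀ i, algebraMap A S (f i) ∈ maximalIdeal S := fun i => hmax ▸ Ideal.mem_map_of_mem _ (hm i)
  obtain ⟨n, hn, hu, hd⟩ := exists_exponents f htame (ne_zero_of_indep f hm hf) S hm'
    (linearIndependent_map hdim hmax f hm hf hm') hunit hint
  refine ⟨n, hn, fun i => isUnit_iff_ne_zero.2 fun h => (hu i).ne_zero ?_, hd⟩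
  rw [← map_natCast (ResidueField.map (algebraMap A S)), h, map_zero]

end Groth.Agent.AbsAbh

namespace Groth.Agent.AbsAbh

variable {A : Type u} [CommRing A] [IsRegularLocalRing A] [IsDomain A] {r : ℕ} (f : Fin r → A)
  (hm : ∀ i, f i ∈ maximalIdeal A)
  (hf : LinearIndependent (ResidueField A) (fun i => (maximalIdeal A).toCotangent ⟨f i, hm i⟩))
  [∀ i, (Ideal.span {f i}).IsPrime] (n : Fin r → ℕ) (hn : ∀ i, 1 ≤ n i)

include hm hf hn in
/-- The pullback of a tame cover to a Kummer covering with sufficiently divisible exponents extends. -/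
theorem exists_extension_kummer (V : FEt.Cat ((SGA1.specBasicOpen A (∏ i, f i)) : Scheme.{u}))
    (htame : SGA1.IsTameAlong f (coverHom (∏ i, f i) V))
    (hd : letI := (coverHom (∏ i, f i) V).toAlgebra; ∀ i, DvdAt Γ(V.left, ⊤) (f i) (n i)) :
    ∃ W : FEt.Cat (Spec (CommRingCat.of (SGA1.kummerAlg A f n))),
      Nonempty ((FEt.restrict ((Spec.map (CommRingCat.ofHom (algebraMap A (SGA1.kummerAlg A f n)))) ⁻¹ᵁ
          (SGA1.specBasicOpen A (∏ i, f i))).ι).obj W ≅
        (FEt.restrict ((Spec.map (CommRingCat.ofHom (algebraMap A (SGA1.kummerAlg A f n)))) ∣_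
          (SGA1.specBasicOpen A (∏ i, f i)))).obj V) := by
  classical
  letI := (coverHom (∏ i, f i) V).toAlgebra
  obtain ⟨eV, heV, _, hunit, hint⟩ := cover_facts (∏ i, f i) V
  have hf0 := ne_zero_of_indep f hm hf
  haveI := isRegularLocalRing A f n hm hf hn
  haveI := isDomain A f n hm hf hn
  let K' := FractionRing (SGA1.kummerAlg A f n)
  let π := Spec.map (CommRingCat.ofHom (algebraMap A (SGA1.kummerAlg A f n)))
  let U := SGA1.specBasicOpen A (∏ i, f i)
  let U' := π ⁻¹ᵁ U
  have sqV : IsPullback (pullback.fst V.hom (π ∣_ U) ≫ eV.hom) (pullback.snd V.hom (π ∣_ U) ≫ U'.ι)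
      (Spec.map (CommRingCat.ofHom (algebraMap A Γ(V.left, ⊤)))) π := by
    refine IsPullback.of_iso ((IsPullback.of_hasPullback V.hom (π ∣_ U)).paste_vert (isPullback_morphismRestrict π U))
      (Iso.refl _) eV (Iso.refl _) (Iso.refl _) ?_ ?_ ?_ ?_
    · exact (Category.id_comp _).symm
    · simp only [Iso.refl_hom, Category.id_comp, Category.comp_id]
      rfl
    · simp only [Iso.refl_hom, Category.comp_id]
      exact heV.symm
    · simp only [Iso.refl_hom, Category.id_comp, Category.comp_id]
  letI : CommRing (SGA1.kummerAlg A f n ⊗[A] Γ(V.left, ⊤)) := inferInstance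
  letI : Algebra (SGA1.kummerAlg A f n) (SGA1.kummerAlg A f n ⊗[A] Γ(V.left, ⊤)) := Algebra.TensorProduct.leftAlgebra
  have sqT := (isPullback_SpecMap_of_isPushout _ _ _ _
    (CommRingCat.isPushout_tensorProduct A (SGA1.kummerAlg A f n) Γ(V.left, ⊤))).flip
  let e' := sqV.isoIsPullback _ _ sqT
  let Y : FEt.Cat ((SGA1.specBasicOpen (SGA1.kummerAlg A f n)
      (algebraMap A (SGA1.kummerAlg A f n) (∏ i, f i))) : Scheme.{u}) := (FEt.restrict (π ∣_ U)).obj V
  refine exists_extension_alg (algebraMap A (SGA1.kummerAlg A f n) (∏ i, f i))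
    (SGA1.kummerAlg A f n ⊗[A] Γ(V.left, ⊤)) Y e' (sqV.isoIsPullback_hom_snd _ _ sqT) K'
    (algebraMap_G_ne_zero f hf0 A hm hf n hn) ?_
  intro y _ hy hGy R _ _ _ _ _ _ _ _ M _ _ _ _ gM hgM hgenM
  obtain ⟨i, hi⟩ := exists_T_mem f A n y hGy
  have hincl : ∀ a, (1 : SGA1.kummerAlg A f n) ⊗ₜ[A] algebraMap A Γ(V.left, ⊤) a =
      algebraMap (SGA1.kummerAlg A f n) (SGA1.kummerAlg A f n ⊗[A] Γ(V.left, ⊤))
        (algebraMap A (SGA1.kummerAlg A f n) a) := fun a =>
    ((Algebra.TensorProduct.includeRight : Γ(V.left, ⊤) →ₐ[A] SGA1.kummerAlg A f n ⊗[A] Γ(V.left, ⊤)).commutes a).trans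
      (IsScalarTower.algebraMap_apply A (SGA1.kummerAlg A f n) (SGA1.kummerAlg A f n ⊗[A] Γ(V.left, ⊤)) a)
  refine unram_at_T f htame hf0 A hm hf n hn i (hd i) K' y (eq_span_T A f n hm hf hn i y hy hi) R M
    (gM.comp (Algebra.TensorProduct.includeRight :
      Γ(V.left, ⊤) →ₐ[A] SGA1.kummerAlg A f n ⊗[A] Γ(V.left, ⊤)).toRingHom) (fun a => ?_)
    (eq_top_iff.2 (hgenM.ge.trans (Subfield.closure_le.2 ?_)))
  · change gM ((1 : SGA1.kummerAlg A f n) ⊗ₜ algebraMap A Γ(V.left, ⊤) a) = _
    rw [hincl, hgM, ← IsScalarTower.algebraMap_apply A (SGA1.kummerAlg A f n) K']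
  · rintro _ (⟨z, rfl⟩ | ⟨c, rfl⟩)
    · induction z using TensorProduct.induction_on with
      | zero => rw [map_zero]; exact zero_mem _
      | add a b ha hb => rw [map_add]; exact add_mem ha hb
      | tmul a c =>
        rw [show (a ⊗ₜ[A] c : SGA1.kummerAlg A f n ⊗[A] Γ(V.left, ⊤)) =
            algebraMap (SGA1.kummerAlg A f n) (SGA1.kummerAlg A f n ⊗[A] Γ(V.left, ⊤)) a *
              ((1 : SGA1.kummerAlg A f n) ⊗ₜ c) by
          simp [Algebra.TensorProduct.algebraMap_apply], map_mul, hgM]
        exact mul_mem (Subfield.subset_closure (Or.inr ⟨_, rfl⟩)) (Subfield.subset_closure (Or.inl ⟨c, rfl⟩))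
    · exact Subfield.subset_closure (Or.inr ⟨c, rfl⟩)

include hm hf hn in
/-- Over a strictly henselian ring a domain tame away from the divisor embeds in the Kummer field. -/
theorem exists_hom_kummerField [HenselianLocalRing A] [IsSepClosed (ResidueField A)]
    (C : Type u) [CommRing C] [IsDomain C] [Algebra A C] [Algebra.Etale A C]
    (htame : SGA1.IsTameAlong f (algebraMap A C)) (hunit : IsUnit (algebraMap A C (∏ i, f i)))
    (hint : ∀ c : C, ∃ k : ℕ, IsIntegral A (algebraMap A C (∏ i, f i) ^ k * c))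
    (hd : ∀ i, DvdAt C (f i) (n i)) :
    ∃ j : C →+* FractionRing (SGA1.kummerAlg A f n),
      ∀ a, j (algebraMap A C a) = algebraMap A (FractionRing (SGA1.kummerAlg A f n)) a := by
  classical
  have hf0 := ne_zero_of_indep f hm hf
  haveI := isRegularLocalRing A f n hm hf hn
  haveI := isDomain A f n hm hf hn
  let K := FractionRing A
  have hq : Ideal.comap (algebraMap A C) ⊥ = ⊥ := by
    rw [eq_bot_iff]
    intro a ha
    by_contra hne
    have hreg : IsSMulRegular C (algebraMap A C a) :=
      IsSMulRegular.of_flat (show IsSMulRegular A a from fun u v h => mul_left_cancel₀ hne h)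
    rw [Ideal.mem_comap, Ideal.mem_bot] at ha
    exact one_ne_zero (hreg (show algebraMap A C a • (1 : C) = algebraMap A C a • (0 : C) by
      simp only [smul_eq_mul]; rw [ha, zero_mul, zero_mul]))
  letI : Algebra K (⊥ : Ideal C).ResidueField := (genMap K ⊥ hq).toAlgebra
  let K' := FractionRing (SGA1.kummerAlg A f n)
  haveI : IsScalarTower A (SGA1.kummerAlg A f n) K' := inferInstance
  have hinj : Function.Injective (algebraMap A K') := by
    have h : Function.Injective (algebraMap A (SGA1.kummerAlg A f n)) := injective_kummer f hf0 A hm hf n hn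
    rw [IsScalarTower.algebraMap_eq A (SGA1.kummerAlg A f n) K']
    exact (IsFractionRing.injective (SGA1.kummerAlg A f n) K').comp h
  letI : Algebra K K' := (IsFractionRing.lift hinj).toAlgebra
  have hKK : ∀ a, algebraMap K K' (algebraMap A K a) = algebraMap A K' a := fun a =>
    IsFractionRing.lift_algebraMap hinj a
  let L := (⊥ : Ideal C).ResidueField
  haveI : Nontrivial (K' ⊗[K] L) :=
    (Algebra.TensorProduct.includeRight_injective (A := K') (B := L) (algebraMap K K').injective).nontrivial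
  obtain ⟨M, hM⟩ := Ideal.exists_maximal (K' ⊗[K] L)
  letI := Ideal.Quotient.field M
  let Ω := (K' ⊗[K] L) ⧸ M
  let gL : L →+* Ω := (Ideal.Quotient.mk M).comp (Algebra.TensorProduct.includeRight : L →ₐ[K] K' ⊗[K] L).toRingHom
  have hgL : ∀ x : K, gL (algebraMap K L x) = algebraMap K' Ω (algebraMap K K' x) := fun x =>
    congrArg (Ideal.Quotient.mk M) ((Algebra.TensorProduct.includeRight : L →ₐ[K] K' ⊗[K] L).commutes x)
  have hsurj := split_kummer f htame hf0 hunit hint A hm hf n hn hd K' Ω (gL.comp (algebraMap C L))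
    (fun a => by rw [RingHom.comp_apply, ← genMap_algebraMap K ⊥ hq a, ← hKK]; exact hgL _) (by
      rw [eq_top_iff]
      intro z hz
      clear hz
      obtain ⟨z, rfl⟩ := Ideal.Quotient.mk_surjective z
      induction z using TensorProduct.induction_on with
      | zero => rw [map_zero]; exact zero_mem _
      | add u v hu hv => rw [map_add]; exact add_mem hu hv
      | tmul u v =>
        rw [show (u ⊗ₜ[K] v : K' ⊗[K] L) = algebraMap K' _ u * ((1 : K') ⊗ₜ v) by
          simp [Algebra.TensorProduct.algebraMap_apply], map_mul]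
        refine mul_mem (Subfield.subset_closure (Or.inr ⟨u, rfl⟩)) ?_
        obtain ⟨c, d, -, rfl⟩ := IsFractionRing.div_surjective (C ⧸ (⊥ : Ideal C)) v
        obtain ⟨c, rfl⟩ := Ideal.Quotient.mk_surjective c
        obtain ⟨d, rfl⟩ := Ideal.Quotient.mk_surjective d
        change gL (algebraMap (C ⧸ (⊥ : Ideal C)) L _ / algebraMap (C ⧸ (⊥ : Ideal C)) L _) ∈ _
        rw [map_div₀, Ideal.algebraMap_quotient_residueField_mk, Ideal.algebraMap_quotient_residueField_mk]
        exact div_mem (Subfield.subset_closure (Or.inl ⟨c, rfl⟩)) (Subfield.subset_closure (Or.inl ⟨d, rfl⟩)))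
  let e := RingEquiv.ofBijective (algebraMap K' Ω) ⟨(algebraMap K' Ω).injective, hsurj⟩
  refine ⟨e.symm.toRingHom.comp (gL.comp (algebraMap C L)), fun a => ?_⟩
  change e.symm (gL (algebraMap C L (algebraMap A C a))) = _
  rw [← genMap_algebraMap K ⊥ hq a, show gL (genMap K ⊥ hq (algebraMap A K a)) = _ from hgL _, hKK]
  exact e.symm_apply_apply _

end Groth.Agent.AbsAbh
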