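import Mathlib
import Groth.Agent.AbsAbh.Main
import Groth.Agent.S1989
import Groth.Agent.Milnor.Ramification

/-!
# Regular tame covers over a strictly henselian ring are Kummer algebras
-/

set_option autoImplicit false
set_option linter.style.haveILetI false
set_option maxHeartbeats 1600000

universe u

open IsLocalRing
open scoped TensorProduct

namespace Groth.Agent.AbsAbh

/-- Units have `e`-th roots in strictly henselian rings, near any approximate root. -/
theorem exists_root_near {B : Type u} [CommRing B] [HenselianLocalRing B] {e : ℕ}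
    (he : IsUnit ((e : ℕ) : B)) {u a₀ : B} (hu : IsUnit u) (h : a₀ ^ e - u ∈ maximalIdeal B) :
    ∃ v, v ^ e = u ∧ v - a₀ ∈ maximalIdeal B := by
  have he0 : e ≠ 0 := fun h0 => he.ne_zero (by rw [h0, Nat.cast_zero])
  have ha : IsUnit a₀ := by
    by_contra hna
    refine (maximalIdeal.isMaximal B).ne_top ((Ideal.eq_top_iff_one _).2 ?_)
    have h1 : u ∈ maximalIdeal B := by
      have h2 := sub_mem (Ideal.pow_mem_of_mem (maximalIdeal B) hna e (Nat.pos_of_ne_zero he0)) h
      rwa [sub_sub_cancel] at h2
    exact absurd hu h1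
  obtain ⟨v, hv, hva⟩ := HenselianLocalRing.is_henselian (Polynomial.X ^ e - Polynomial.C u)
    (Polynomial.monic_X_pow_sub_C u he0) a₀
    (by simpa using h)
    (by rw [Polynomial.derivative_sub, Polynomial.derivative_C, sub_zero, Polynomial.derivative_X_pow,
          Polynomial.eval_mul, Polynomial.eval_C, Polynomial.eval_pow, Polynomial.eval_X]
        exact he.mul (ha.pow _))
  exact ⟨v, sub_eq_zero.1 (by simpa using hv), hva⟩

/-- Units have roots of invertible order in strictly henselian rings. -/
theorem exists_pow_eq_of_isUnit {B : Type u} [CommRing B] [HenselianLocalRing B] [IsSepClosed (ResidueField B)]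
    {e : ℕ} (he : IsUnit ((e : ℕ) : B)) {u : B} (hu : IsUnit u) : ∃ v, v ^ e = u := by
  haveI : NeZero ((e : ℕ) : ResidueField B) := ⟨by rw [← map_natCast (residue B)]; exact (he.map _).ne_zero⟩
  obtain ⟨z, hz⟩ := IsSepClosed.exists_pow_nat_eq (residue B u) e
  obtain ⟨a₀, rfl⟩ := residue_surjective z
  obtain ⟨v, hv, -⟩ := exists_root_near he hu (a₀ := a₀)
    ((residue_eq_zero_iff _).1 (by rw [map_sub, map_pow, hz, sub_self]))
  exact ⟨v, hv⟩

/-- A local integral domain finite over a strictly henselian ring is strictly henselian. -/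
theorem strictHenselian_of_finite (A B : Type u) [CommRing A] [HenselianLocalRing A]
    [IsSepClosed (ResidueField A)] [CommRing B] [IsLocalRing B] [Algebra A B] [Module.Finite A B] :
    HenselianLocalRing B ∧ IsSepClosed (ResidueField B) := by
  haveI : IsLocalHom (algebraMap A B) := by
    refine ⟨fun s hs => ?_⟩
    by_contra hns
    have h : (maximalIdeal B).comap (algebraMap A B) = maximalIdeal A :=
      IsLocalRing.eq_maximalIdeal (Ideal.isMaximal_comap_of_isIntegral_of_isMaximal _)
    exact ((SetLike.ext_iff.1 h s).2 hns) hs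
  refine ⟨Hens.henselianLocalRing_of_finite (A := A) B, ?_⟩
  haveI : Algebra.IsAlgebraic (ResidueField A) (ResidueField B) := Algebra.IsAlgebraic.of_finite _ _
  exact Algebra.IsAlgebraic.isSepClosed (F := ResidueField A)

variable {A : Type u} [CommRing A] [IsRegularLocalRing A] [IsDomain A] {r : ℕ} (f : Fin r → A)
  [∀ i, (Ideal.span {f i}).IsPrime] {B : Type u} [CommRing B] [IsDomain B] [Algebra A B] [Module.Finite A B]
  (hinj : Function.Injective (algebraMap A B)) (hf0 : ∀ i, f i ≠ 0)

include hinj hf0 in
theorem map_prod_ne_zero : algebraMap A B (∏ i, f i) ≠ 0 :=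
  (map_ne_zero_iff _ hinj).2 (Finset.prod_ne_zero_iff.2 fun i _ => hf0 i)

omit [IsRegularLocalRing A] [IsDomain A] [∀ i, (Ideal.span {f i}).IsPrime] in
/-- The localization of `B` away from the divisor. -/
theorem localization_facts [Algebra.Etale (Localization.Away (∏ i, f i))
      (Localization.Away (∏ i, f i) ⊗[A] B)] :
    Algebra.Etale A (Localization.Away (algebraMap A B (∏ i, f i))) ∧
    IsUnit (algebraMap A (Localization.Away (algebraMap A B (∏ i, f i))) (∏ i, f i)) ∧
    ∀ c : Localization.Away (algebraMap A B (∏ i, f i)), ∃ k : ℕ,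
      IsIntegral A (algebraMap A (Localization.Away (algebraMap A B (∏ i, f i))) (∏ i, f i) ^ k * c) := by
  let F := ∏ i, f i
  refine ⟨?_, ?_, fun c => ?_⟩
  · haveI : Algebra.Etale A (Localization.Away F) := Algebra.Etale.of_isLocalizationAway F
    haveI : Algebra.Etale A (Localization.Away F ⊗[A] B) := Algebra.Etale.comp A (Localization.Away F) _
    haveI : IsLocalization.Away (algebraMap A B F) (B ⊗[A] Localization.Away F) := by
      have h : IsLocalization (Algebra.algebraMapSubmonoid B (Submonoid.powers F)) (B ⊗[A] Localization.Away F) :=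
        inferInstance
      rwa [Algebra.algebraMapSubmonoid_powers] at h
    exact Algebra.Etale.of_equiv ((Algebra.TensorProduct.comm A (Localization.Away F) B).trans
      ((IsLocalization.algEquiv (Submonoid.powers (algebraMap A B F)) (B ⊗[A] Localization.Away F)
        (Localization.Away (algebraMap A B F))).restrictScalars A))
  · rw [IsScalarTower.algebraMap_apply A B (Localization.Away (algebraMap A B (∏ i, f i)))]
    exact IsLocalization.Away.algebraMap_isUnit _
  · obtain ⟨b, ⟨_, k, rfl⟩, rfl⟩ := IsLocalization.exists_mk'_eq (Submonoid.powers (algebraMap A B F)) c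
    refine ⟨k, ?_⟩
    have h : algebraMap A (Localization.Away (algebraMap A B F)) F ^ k *
        IsLocalization.mk' (Localization.Away (algebraMap A B F)) b
          (⟨_, k, rfl⟩ : Submonoid.powers (algebraMap A B F)) =
          algebraMap B (Localization.Away (algebraMap A B F)) b := by
      rw [IsScalarTower.algebraMap_apply A B (Localization.Away (algebraMap A B F)), ← map_pow]
      exact IsLocalization.mk'_spec'_mk _ _ _ _
    refine h.symm ▸ ?_
    exact (Algebra.IsIntegral.isIntegral b).map (IsScalarTower.toAlgHom A B _)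

include hinj hf0 in
/-- Tameness passes to the localization. -/
theorem tame_localization
    [Algebra.Etale A (Localization.Away (algebraMap A B (∏ i, f i)))]
    (htame : SGA1.IsTameAlong f (algebraMap A B)) :
    SGA1.IsTameAlong f (algebraMap A (Localization.Away (algebraMap A B (∏ i, f i)))) := by
  intro i q _ hq
  let C := Localization.Away (algebraMap A B (∏ i, f i))
  haveI : IsDomain C := IsLocalization.isDomain_localization
    (powers_le_nonZeroDivisors_of_noZeroDivisors (map_prod_ne_zero f hinj hf0))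
  have hpq : Ideal.comap (algebraMap A B) (q.comap (algebraMap B C)) = ⊥ := by
    rw [Ideal.comap_comap, ← IsScalarTower.algebraMap_eq]; exact hq
  let q' := q.comap (algebraMap B C)
  let K := FractionRing A
  letI : Algebra K q.ResidueField := (genMap K q hq).toAlgebra
  letI : Algebra K q'.ResidueField := (genMap K q' hpq).toAlgebra
  obtain ⟨_, _⟩ := finite_separable K q hq
  let σ : q'.ResidueField →+* q.ResidueField := Ideal.ResidueField.map q' q (algebraMap B C) rfl
  have hσ : ∀ b, σ (algebraMap B q'.ResidueField b) = algebraMap C q.ResidueField (algebraMap B C b) := fun b =>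
    Ideal.ResidueField.map_algebraMap _ _ _ _ b
  have hσK : ∀ x, σ (algebraMap K q'.ResidueField x) = algebraMap K q.ResidueField x := fun x =>
    RingHom.congr_fun (IsLocalization.ringHom_ext (nonZeroDivisors A)
      (j := σ.comp (genMap K q' hpq)) (k := genMap K q hq) (RingHom.ext fun a => by
        simp only [RingHom.comp_apply]
        rw [genMap_algebraMap, genMap_algebraMap, hσ]
        exact congrArg _ (IsScalarTower.algebraMap_apply A B C a).symm)) x
  have hsurj : Function.Surjective σ := by
    intro z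
    obtain ⟨c, d, -, rfl⟩ := IsFractionRing.div_surjective (C ⧸ q) z
    obtain ⟨c, rfl⟩ := Ideal.Quotient.mk_surjective c
    obtain ⟨d, rfl⟩ := Ideal.Quotient.mk_surjective d
    rw [Ideal.algebraMap_quotient_residueField_mk, Ideal.algebraMap_quotient_residueField_mk]
    have h : ∀ c, algebraMap C q.ResidueField c ∈ σ.fieldRange := by
      intro c
      obtain ⟨b, s, rfl⟩ := IsLocalization.exists_mk'_eq (Submonoid.powers (algebraMap A B (∏ i, f i))) c
      refine ⟨algebraMap B q'.ResidueField b / algebraMap B q'.ResidueField s, ?_⟩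
      rw [map_div₀, hσ, hσ]
      refine (eq_div_iff ?_).2 ?_ |>.symm
      · exact ((IsLocalization.map_units C s).map _).ne_zero
      · rw [← map_mul, IsLocalization.mk'_spec]
    exact RingHom.mem_fieldRange.1 (div_mem (h c) (h d))
  let e : q'.ResidueField ≃ₐ[K] q.ResidueField :=
    AlgEquiv.ofRingEquiv (f := RingEquiv.ofBijective σ ⟨σ.injective, hsurj⟩) hσK
  haveI : FiniteDimensional K q'.ResidueField := Module.Finite.equiv e.symm.toLinearEquiv
  haveI : Algebra.IsSeparable K q'.ResidueField := Algebra.IsSeparable.of_algHom K q.ResidueField e.toAlgHom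
  letI : Algebra q.ResidueField q'.ResidueField := e.symm.toRingEquiv.toRingHom.toAlgebra
  haveI : IsScalarTower K q.ResidueField q'.ResidueField :=
    IsScalarTower.of_algebraMap_eq fun x => (e.symm.commutes x).symm
  obtain ⟨_, _, hπ⟩ := isDVR_localization f hf0 i
  letI : Algebra (Localization.AtPrime (Ideal.span {f i})) K := (IsLocalization.lift (M := (Ideal.span {f i}).primeCompl)
    (g := algebraMap A K) (S := Localization.AtPrime (Ideal.span {f i}))
    fun s => isUnit_iff_ne_zero.2 ((map_ne_zero_iff _ (IsFractionRing.injective A K)).2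
      fun h0 => s.2 (h0 ▸ Ideal.zero_mem _))).toAlgebra
  haveI : IsScalarTower A (Localization.AtPrime (Ideal.span {f i})) K :=
    IsScalarTower.of_algebraMap_eq (R := A) (S := Localization.AtPrime (Ideal.span {f i})) (A := K) fun a =>
      (IsLocalization.lift_eq (M := (Ideal.span {f i}).primeCompl) (g := algebraMap A K) _ a).symm
  haveI : IsFractionRing (Localization.AtPrime (Ideal.span {f i})) K :=
    IsFractionRing.isFractionRing_of_isDomain_of_isLocalization (Ideal.span {f i}).primeCompl _ K
  have hmap : (algebraMap K q.ResidueField).comp (algebraMap (Localization.AtPrime (Ideal.span {f i})) K) =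
      SGA1.genericResidueMap (algebraMap A C) (Ideal.span {f i}) q hq :=
    IsLocalization.ringHom_ext (Ideal.span {f i}).primeCompl (RingHom.ext fun a => by
      simp only [RingHom.comp_apply]
      rw [← IsScalarTower.algebraMap_apply A (Localization.AtPrime (Ideal.span {f i})) K]
      exact (genMap_algebraMap K q hq a).trans
        (IsLocalization.lift_eq (SGA1.isUnit_genericResidue (algebraMap A C) _ q hq) a).symm)
  have hmap' : (algebraMap K q'.ResidueField).comp (algebraMap (Localization.AtPrime (Ideal.span {f i})) K) =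
      SGA1.genericResidueMap (algebraMap A B) (Ideal.span {f i}) q' hpq :=
    IsLocalization.ringHom_ext (Ideal.span {f i}).primeCompl (RingHom.ext fun a => by
      simp only [RingHom.comp_apply]
      rw [← IsScalarTower.algebraMap_apply A (Localization.AtPrime (Ideal.span {f i})) K]
      exact (genMap_algebraMap K q' hpq a).trans
        (IsLocalization.lift_eq (SGA1.isUnit_genericResidue (algebraMap A B) _ q' hpq) a).symm)
  have h := (S1989.result (Localization.AtPrime (Ideal.span {f i})) K q.ResidueField q'.ResidueField).1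
    (hmap'.symm ▸ htame i q' hpq)
  exact hmap ▸ h

include hinj hf0 in
/-- A prime `g` with `f i = u g ^ e` bounds the ramification indices along `(f i)`. -/
theorem dvdAt_of_prime_pow [UniqueFactorizationMonoid B] (i : Fin r) (g : B) (hg : Prime g)
    (hgc : (Ideal.span {g}).comap (algebraMap A B) = Ideal.span {f i})
    (hgu : ∀ P : Ideal B, P.IsPrime → P.comap (algebraMap A B) = Ideal.span {f i} → P = Ideal.span {g})
    (e : ℕ) (u : B) (hu : IsUnit u) (hfe : algebraMap A B (f i) = u * g ^ e)
    [Algebra.Etale A (Localization.Away (algebraMap A B (∏ i, f i)))] :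
    DvdAt (Localization.Away (algebraMap A B (∏ i, f i))) (f i) e := by
  intro q _ hq V hV
  let C := Localization.Away (algebraMap A B (∏ i, f i))
  haveI : IsDomain C := IsLocalization.isDomain_localization
    (powers_le_nonZeroDivisors_of_noZeroDivisors (map_prod_ne_zero f hinj hf0))
  haveI : (Ideal.span {g}).IsPrime := (Ideal.span_singleton_prime hg.ne_zero).2 hg
  obtain ⟨_, _, hπ⟩ := isDVR_localization f hf0 i
  let R := Localization.AtPrime (Ideal.span {f i})
  let γ : B →+* q.ResidueField := (algebraMap C q.ResidueField).comp (algebraMap B C)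
  let K := FractionRing A
  letI : Algebra K q.ResidueField := (genMap K q hq).toAlgebra
  obtain ⟨_, _⟩ := finite_separable K q hq
  letI : Algebra R K := (IsLocalization.lift (M := (Ideal.span {f i}).primeCompl) (g := algebraMap A K) (S := R)
    fun s => isUnit_iff_ne_zero.2 ((map_ne_zero_iff _ (IsFractionRing.injective A K)).2
      fun h0 => s.2 (h0 ▸ Ideal.zero_mem _))).toAlgebra
  haveI : IsScalarTower A R K :=
    IsScalarTower.of_algebraMap_eq (R := A) (S := R) (A := K) fun a =>
      (IsLocalization.lift_eq (M := (Ideal.span {f i}).primeCompl) (g := algebraMap A K) _ a).symm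
  haveI : IsFractionRing R K :=
    IsFractionRing.isFractionRing_of_isDomain_of_isLocalization (Ideal.span {f i}).primeCompl _ K
  have hgR : ∀ a, SGA1.genericResidueMap (algebraMap A C) (Ideal.span {f i}) q hq (algebraMap A R a) =
      algebraMap C q.ResidueField (algebraMap A C a) := fun a =>
    IsLocalization.lift_eq (SGA1.isUnit_genericResidue (algebraMap A C) _ q hq) a
  have hmap : (algebraMap K q.ResidueField).comp (algebraMap R K) =
      SGA1.genericResidueMap (algebraMap A C) (Ideal.span {f i}) q hq :=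
    IsLocalization.ringHom_ext (Ideal.span {f i}).primeCompl (RingHom.ext fun a => by
      simp only [RingHom.comp_apply]
      rw [← IsScalarTower.algebraMap_apply A R K]
      exact (genMap_algebraMap K q hq a).trans (hgR a).symm)
  haveI := EtRamLib.ValTower.isDiscreteValuationRing_of_dominates R K q.ResidueField V (hmap.symm ▸ hV)
  letI : Algebra R V :=
    (RingHom.codRestrict (SGA1.genericResidueMap (algebraMap A C) (Ideal.span {f i}) q hq) V hV.1).toAlgebra
  haveI : IsLocalHom (algebraMap R V) := EtRamLib.ValTower.isLocalHom_of_dominates V hV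
  have hinjR : Function.Injective (algebraMap R V) := fun a b hab =>
    IsFractionRing.injective R K ((algebraMap K q.ResidueField).injective
      ((RingHom.congr_fun hmap a).trans ((congrArg Subtype.val hab).trans (RingHom.congr_fun hmap b).symm)))
  -- `B` maps into `V`
  have hγA : ∀ a, γ (algebraMap A B a) = ((algebraMap R V (algebraMap A R a) : V) : q.ResidueField) := fun a =>
    (congrArg (algebraMap C q.ResidueField) (IsScalarTower.algebraMap_apply A B C a).symm).trans (hgR a).symm
  have hmem : ∀ b, γ b ∈ V := fun b => by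
    obtain ⟨p, hp, hpb⟩ := Algebra.IsIntegral.isIntegral (R := A) b
    have h1 : IsIntegral V (γ b) := by
      refine ⟨p.map ((algebraMap R V).comp (algebraMap A R)), hp.map _, ?_⟩
      rw [Polynomial.eval₂_map]
      have h2 : ((algebraMap V q.ResidueField).comp ((algebraMap R V).comp (algebraMap A R))) =
          γ.comp (algebraMap A B) := RingHom.ext fun a => (hγA a).symm
      rw [h2, ← Polynomial.hom_eval₂, hpb, map_zero]
    obtain ⟨v, hv⟩ := IsIntegrallyClosed.isIntegral_iff.1 h1
    exact hv ▸ v.2
  let γV : B →+* V := γ.codRestrict V hmem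
  have hγV : ∀ a, γV (algebraMap A B a) = algebraMap R V (algebraMap A R a) := fun a => Subtype.ext (hγA a)
  -- the centre of `V`
  let P := (maximalIdeal V).comap γV
  have hPc : P.comap (algebraMap A B) = Ideal.span {f i} := by
    ext a
    rw [Ideal.mem_comap, Ideal.mem_comap, hγV, IsLocalRing.mem_maximalIdeal, mem_nonunits_iff,
      isUnit_map_iff (algebraMap R V), IsLocalization.AtPrime.isUnit_to_map_iff R (Ideal.span {f i})]
    exact not_not
  have hP : P = Ideal.span {g} := hgu P inferInstance hPc
  have hs : ∀ s, ¬ g ∣ s → IsUnit (γV s) := fun s hs => by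
    by_contra h
    exact hs (Ideal.mem_span_singleton.1 (hP ▸ h))
  obtain ⟨ϖ, hϖ⟩ := IsDiscreteValuationRing.exists_irreducible V
  have hgm : γV g ∈ maximalIdeal V := (SetLike.ext_iff.1 hP g).2 (Ideal.mem_span_singleton_self _)
  have hγinj : Function.Injective γ := by
    rw [RingHom.injective_iff_ker_eq_bot]
    refine Ideal.IsIntegral.eq_bot_of_comap_eq_bot A ?_
    rw [eq_bot_iff]
    intro a ha
    have h1 : a ∈ Ideal.comap (algebraMap A C) q := by
      rw [Ideal.mem_comap, IsScalarTower.algebraMap_apply A B C, ← Ideal.Quotient.eq_zero_iff_mem,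
        ← map_eq_zero_iff _ (IsFractionRing.injective (C ⧸ q) q.ResidueField),
        Ideal.algebraMap_quotient_residueField_mk]
      exact ha
    rwa [hq] at h1
  have hg0 : γV g ≠ 0 := fun h => hg.ne_zero (hγinj ((congrArg Subtype.val h).trans (map_zero γ).symm))
  obtain ⟨d, w, hd⟩ := IsDiscreteValuationRing.eq_unit_mul_pow_irreducible hg0 hϖ
  -- `γV g` is a uniformizer
  have hd1 : d = 1 := by
    haveI : Algebra.IsAlgebraic A B := Algebra.IsIntegral.isAlgebraic
    have hfr : ∃ b s : B, γV b = ϖ * γV s ∧ s ≠ 0 := by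
      obtain ⟨c, c', hc', hcc⟩ := IsFractionRing.div_surjective (C ⧸ q) (ϖ : q.ResidueField)
      obtain ⟨c, rfl⟩ := Ideal.Quotient.mk_surjective c
      obtain ⟨c', rfl⟩ := Ideal.Quotient.mk_surjective c'
      obtain ⟨b, s, rfl⟩ := IsLocalization.exists_mk'_eq (Submonoid.powers (algebraMap A B (∏ i, f i))) c
      obtain ⟨b', s', rfl⟩ := IsLocalization.exists_mk'_eq (Submonoid.powers (algebraMap A B (∏ i, f i))) c'
      rw [Ideal.algebraMap_quotient_residueField_mk, Ideal.algebraMap_quotient_residueField_mk] at hcc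
      have hne : algebraMap C q.ResidueField (IsLocalization.mk' C b' s') ≠ 0 := by
        intro h0
        rw [← Ideal.algebraMap_quotient_residueField_mk, map_eq_zero_iff _ (IsFractionRing.injective (C ⧸ q) _)] at h0
        exact nonZeroDivisors.ne_zero hc' h0
      rw [div_eq_iff hne] at hcc
      have h5 := congrArg (· * (γ s * γ s')) hcc
      simp only [γ, RingHom.comp_apply] at h5
      have e1 := congrArg (algebraMap C q.ResidueField) (IsLocalization.mk'_spec C b s)
      have e2 := congrArg (algebraMap C q.ResidueField) (IsLocalization.mk'_spec C b' s')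
      rw [map_mul] at e1 e2
      refine ⟨b * s', b' * s, Subtype.ext ?_, mul_ne_zero ?_ ?_⟩
      · change γ (b * s') = (ϖ : q.ResidueField) * γ (b' * s)
        rw [map_mul, map_mul]
        simp only [γ, RingHom.comp_apply]
        rw [← e1, ← e2]
        linear_combination h5
      · rintro rfl
        exact hne (by rw [IsLocalization.mk'_zero, map_zero])
      · exact nonZeroDivisors.ne_zero
          (powers_le_nonZeroDivisors_of_noZeroDivisors (map_prod_ne_zero f hinj hf0) s.2)
    obtain ⟨b, s, hbs, hs0⟩ := hfr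
    have hb0 : b ≠ 0 := by
      rintro rfl
      rw [map_zero, eq_comm] at hbs
      rcases mul_eq_zero.1 hbs with h | h
      · exact hϖ.ne_zero h
      · exact hs0 (hγinj ((congrArg Subtype.val h).trans (map_zero γ).symm))
    obtain ⟨k, b', hb', rfl⟩ := WfDvdMonoid.max_power_factor hb0 hg.irreducible
    obtain ⟨l, s', hs', rfl⟩ := WfDvdMonoid.max_power_factor hs0 hg.irreducible
    obtain ⟨ub, hub⟩ := hs b' hb'
    obtain ⟨us, hus⟩ := hs s' hs'
    rw [map_mul, map_mul, map_pow, map_pow, hd, ← hub, ← hus, mul_pow, mul_pow, ← pow_mul, ← pow_mul] at hbs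
    have h6 := IsDiscreteValuationRing.unit_mul_pow_congr_pow hϖ hϖ (w ^ k * ub) (w ^ l * us) (d * k) (d * l + 1)
      (by push_cast; linear_combination hbs)
    have h7 : d ∣ 1 := (Nat.dvd_add_right (dvd_mul_right d l)).1 (h6 ▸ dvd_mul_right d k)
    exact Nat.dvd_one.1 h7
  subst hd1
  obtain ⟨e', u', -, he', hidx⟩ := EtRamLib.exists_ramificationIdx hinjR
    ((IsDiscreteValuationRing.irreducible_iff_uniformizer _).2 hπ) hϖ
  change Ideal.ramificationIdx' (maximalIdeal R) (maximalIdeal V) ∣ e
  rw [hidx]
  obtain ⟨uu, huu⟩ := hu.map γV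
  rw [← hγV, hfe, map_mul, map_pow, hd, pow_one, mul_pow, ← huu] at he'
  rw [IsDiscreteValuationRing.unit_mul_pow_congr_pow hϖ hϖ (uu * w ^ e) u' e e'
    (by push_cast; linear_combination he')]

variable [HenselianLocalRing A] [IsSepClosed (ResidueField A)] (hm : ∀ i, f i ∈ maximalIdeal A)
  (hf : LinearIndependent (ResidueField A) (fun i => (maximalIdeal A).toCotangent ⟨f i, hm i⟩))
  (htame : SGA1.IsTameAlong f (algebraMap A B))
  [Algebra.Etale A (Localization.Away (algebraMap A B (∏ i, f i)))]
  (hunit : IsUnit (algebraMap A (Localization.Away (algebraMap A B (∏ i, f i))) (∏ i, f i)))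
  (hint : ∀ c : Localization.Away (algebraMap A B (∏ i, f i)), ∃ k : ℕ,
    IsIntegral A (algebraMap A (Localization.Away (algebraMap A B (∏ i, f i))) (∏ i, f i) ^ k * c))

include hinj hm hf htame hunit hint in
/-- A finite tame domain embeds in a Kummer algebra. -/
theorem exists_algHom_kummer (n : Fin r → ℕ) (hn : ∀ i, 1 ≤ n i)
    (hd : ∀ i, DvdAt (Localization.Away (algebraMap A B (∏ i, f i))) (f i) (n i)) :
    ∃ ψ : B →ₐ[A] SGA1.kummerAlg A f n, Function.Injective ψ := by
  have hf0 := ne_zero_of_indep f hm hf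
  let C := Localization.Away (algebraMap A B (∏ i, f i))
  haveI : IsDomain C := IsLocalization.isDomain_localization
    (powers_le_nonZeroDivisors_of_noZeroDivisors (map_prod_ne_zero f hinj hf0))
  obtain ⟨j, hj⟩ := exists_hom_kummerField f hm hf n hn C (tame_localization f hinj hf0 htame) hunit hint hd
  haveI := isRegularLocalRing A f n hm hf hn
  haveI := isDomain A f n hm hf hn
  haveI := RegLoc.UFD.uniqueFactorizationMonoid (SGA1.kummerAlg A f n)
  let K' := FractionRing (SGA1.kummerAlg A f n)
  have hjA : ∀ a, j (algebraMap B C (algebraMap A B a)) = algebraMap A K' a := fun a => by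
    rw [← IsScalarTower.algebraMap_apply, hj]
  let jB : B →ₐ[A] K' := { j.comp (algebraMap B C) with commutes' := hjA }
  let ι : SGA1.kummerAlg A f n →ₐ[A] K' := IsScalarTower.toAlgHom A _ K'
  have hι : Function.Injective ι := IsFractionRing.injective (SGA1.kummerAlg A f n) K'
  have hran : ∀ b, jB b ∈ ι.range := fun b => by
    obtain ⟨z, hz⟩ := (IsIntegrallyClosed.isIntegral_iff (R := SGA1.kummerAlg A f n) (K := K')).1
      (((Algebra.IsIntegral.isIntegral (R := A) b).map jB).tower_top (A := SGA1.kummerAlg A f n))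
    exact ⟨z, hz⟩
  let ψ : B →ₐ[A] SGA1.kummerAlg A f n :=
    (AlgEquiv.ofInjective ι hι).symm.toAlgHom.comp (jB.codRestrict ι.range hran)
  refine ⟨ψ, (RingHom.injective_iff_ker_eq_bot ψ.toRingHom).2 (Ideal.IsIntegral.eq_bot_of_comap_eq_bot A ?_)⟩
  rw [eq_bot_iff]
  intro a ha
  have h1 : algebraMap A (SGA1.kummerAlg A f n) a = 0 := (ψ.commutes a).symm.trans ha
  exact algebraMap_injective A f n hm hn (h1.trans (map_zero _).symm)

include hm hf in
omit [HenselianLocalRing A] [IsSepClosed (ResidueField A)]
  [Algebra.Etale A (Localization.Away (algebraMap A B (∏ i, f i)))] in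
/-- There is only one prime over `(f_i)` in a subring of a Kummer algebra. -/
theorem prime_over_unique (n : Fin r → ℕ) (hn : ∀ i, 1 ≤ n i) (ψ : B →ₐ[A] SGA1.kummerAlg A f n)
    (hψ : Function.Injective ψ) (i : Fin r) (P : Ideal B) [P.IsPrime]
    (hP : P.comap (algebraMap A B) = Ideal.span {f i}) :
    P = (Ideal.span {T A f n i}).comap ψ := by
  haveI := isPrime_T A f n hm hf hn i
  haveI := isDomain A f n hm hf hn
  obtain ⟨_, _⟩ := finite_free A f n hn
  haveI : Algebra.IsIntegral A (SGA1.kummerAlg A f n) := Algebra.IsIntegral.of_finite _ _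
  haveI : Algebra.HasGoingDown A (SGA1.kummerAlg A f n) := Algebra.HasGoingDown.of_flat
  letI : Algebra B (SGA1.kummerAlg A f n) := ψ.toRingHom.toAlgebra
  haveI : IsScalarTower A B (SGA1.kummerAlg A f n) := IsScalarTower.of_algebraMap_eq fun a => (ψ.commutes a).symm
  haveI : Algebra.IsIntegral B (SGA1.kummerAlg A f n) := Algebra.IsIntegral.tower_top (R := A)
  obtain ⟨Q, hQp, hQ⟩ := Ideal.exists_ideal_over_prime_of_isIntegral_of_isDomain
    (S := SGA1.kummerAlg A f n) P (by
      change RingHom.ker ψ.toRingHom ≤ P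
      exact ((RingHom.injective_iff_ker_eq_bot ψ.toRingHom).1 hψ).le.trans bot_le)
  have hQA : Q.comap (algebraMap A (SGA1.kummerAlg A f n)) = Ideal.span {f i} := by
    rw [IsScalarTower.algebraMap_eq A B (SGA1.kummerAlg A f n), ← Ideal.comap_comap, hQ, hP]
  have hTQ : T A f n i ∈ Q := hQp.mem_of_pow_mem (n i) (by
    rw [T_pow, ← Ideal.mem_comap, hQA]; exact Ideal.mem_span_singleton_self _)
  have hle : Ideal.span {T A f n i} ≤ Q := (Ideal.span_singleton_le_iff_mem _).2 hTQ
  have heq : Q = Ideal.span {T A f n i} := by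
    by_contra hne
    have hlt := Ideal.IsIntegral.comap_lt_comap (R := A) (lt_of_le_of_ne hle (Ne.symm hne))
    rw [hQA, comap_T A f n hm hf hn (f i) i rfl] at hlt
    exact lt_irrefl _ hlt
  rw [← hQ, heq]
  rfl

variable [Module.Free A B] [IsRegularLocalRing B]

include hinj hm hf htame hunit hint in
/-- The structure at one divisor. -/
theorem exists_prime_pow (N : Fin r → ℕ) (hN : ∀ i, 1 ≤ N i)
    (hNd : ∀ i, DvdAt (Localization.Away (algebraMap A B (∏ i, f i))) (f i) (N i)) (i : Fin r) :
    ∃ (g : B) (e : ℕ) (u : B), IsUnit u ∧ 1 ≤ e ∧ e ∣ N i ∧ algebraMap A B (f i) = u * g ^ e ∧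
      DvdAt (Localization.Away (algebraMap A B (∏ i, f i))) (f i) e := by
  classical
  haveI := RegLoc.UFD.uniqueFactorizationMonoid B
  haveI : Algebra.HasGoingDown A B := Algebra.HasGoingDown.of_flat
  obtain ⟨ψ, hψ⟩ := exists_algHom_kummer f hinj hm hf htame hunit hint N hN hNd
  haveI := isDomain A f N hm hf hN
  haveI := isPrime_T A f N hm hf hN i
  haveI := isRegularLocalRing A f N hm hf hN
  haveI := RegLoc.UFD.uniqueFactorizationMonoid (SGA1.kummerAlg A f N)
  have hf0 := ne_zero_of_indep f hm hf
  have hne : algebraMap A B (f i) ≠ 0 := (map_ne_zero_iff _ hinj).2 (hf0 i)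
  have hnu : ¬ IsUnit (algebraMap A B (f i)) := fun h => by
    have h1 := h.map ψ
    rw [AlgHom.commutes, show algebraMap A (SGA1.kummerAlg A f N) (f i) = T A f N i ^ N i from (T_pow A f N i).symm,
      isUnit_pow_iff (Nat.one_le_iff_ne_zero.1 (hN i))] at h1
    exact Ideal.IsPrime.ne_top ‹_› (Ideal.span_singleton_eq_top.2 h1)
  obtain ⟨g, hgi, hgd⟩ := WfDvdMonoid.exists_irreducible_factor hnu hne
  have hgp : Prime g := UniqueFactorizationMonoid.irreducible_iff_prime.1 hgi
  let P₀ := (Ideal.span {T A f N i}).comap ψ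
  -- every prime factor spans the prime over `(f i)`
  have hfac : ∀ g' : B, Prime g' → g' ∣ algebraMap A B (f i) →
      (Ideal.span {g'}).comap (algebraMap A B) = Ideal.span {f i} ∧ Ideal.span {g'} = P₀ := by
    intro g' hg' hd'
    haveI : (Ideal.span {g'}).IsPrime := (Ideal.span_singleton_prime hg'.ne_zero).2 hg'
    have hle : Ideal.span {f i} ≤ (Ideal.span {g'}).comap (algebraMap A B) := by
      rw [Ideal.span_singleton_le_iff_mem, Ideal.mem_comap, Ideal.mem_span_singleton]; exact hd'
    haveI : (Ideal.span {g'}).LiesOver ((Ideal.span {g'}).comap (algebraMap A B)) := ⟨rfl⟩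
    obtain ⟨Q, hQ, hQp, hQo⟩ := Ideal.exists_ideal_le_liesOver_of_le
      (q := (Ideal.span {g'}).comap (algebraMap A B)) (Ideal.span {g'}) hle
    have hQi : algebraMap A B (f i) ∈ Q := (SetLike.ext_iff.1 hQo.over (f i)).1 (Ideal.mem_span_singleton_self _)
    obtain ⟨k, a, hga, hfa⟩ := WfDvdMonoid.max_power_factor hne hg'.irreducible
    have hg'Q : g' ∈ Q := by
      refine hQp.mem_of_pow_mem k ((hQp.mem_or_mem (hfa ▸ hQi)).resolve_right fun ha => hga ?_)
      exact Ideal.mem_span_singleton.1 (hQ ha)
    have hQeq : Q = Ideal.span {g'} := le_antisymm hQ ((Ideal.span_singleton_le_iff_mem _).2 hg'Q)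
    have hc : (Ideal.span {g'}).comap (algebraMap A B) = Ideal.span {f i} := by
      subst hQeq; exact hQo.over.symm
    exact ⟨hc, prime_over_unique f hm hf N hN ψ hψ i _ hc⟩
  obtain ⟨e, u, hgu, hfe⟩ := WfDvdMonoid.max_power_factor hne hgi
  have hu : IsUnit u := by
    by_contra hu
    obtain ⟨g', hg'i, hg'd⟩ := WfDvdMonoid.exists_irreducible_factor hu (fun h0 => hgu (h0 ▸ dvd_zero g))
    refine hgu (dvd_trans ?_ hg'd)
    rw [← Ideal.span_singleton_le_span_singleton, (hfac g' (UniqueFactorizationMonoid.irreducible_iff_prime.1 hg'i)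
      (hfe ▸ hg'd.mul_left _)).2, (hfac g hgp hgd).2]
  have he : 1 ≤ e := by
    refine Nat.one_le_iff_ne_zero.2 fun h0 => hnu ?_
    rw [hfe, h0, pow_zero, one_mul]; exact hu
  -- `e` divides `N i`
  have heN : e ∣ N i := by
    have hTp : Prime (T A f N i) := (Ideal.span_singleton_prime (T_ne_zero A f N hm hf hN i)).1 inferInstance
    have h1 : T A f N i ^ N i = ψ u * ψ g ^ e := by
      rw [T_pow, ← ψ.commutes, hfe, map_mul, map_pow, mul_comm]
    obtain ⟨c, -, hc⟩ := (dvd_prime_pow hTp (N i)).1 (show ψ g ∣ T A f N i ^ N i by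
      rw [h1]; exact Dvd.dvd.mul_left (dvd_pow_self _ (Nat.one_le_iff_ne_zero.1 he)) _)
    obtain ⟨w, hw⟩ := hc.symm
    rw [← hw, mul_pow, ← pow_mul] at h1
    obtain ⟨U, hU⟩ := (hu.map ψ).mul (w.isUnit.pow e)
    have h2 : T A f N i ^ N i = (U : SGA1.kummerAlg A f N) * T A f N i ^ (c * e) := by
      rw [hU, h1]; ring
    have h3 : c * e ≤ N i := (pow_dvd_pow_iff hTp.ne_zero hTp.not_isUnit).1 (h2 ▸ dvd_mul_left _ _)
    have h4 : N i ≤ c * e := (pow_dvd_pow_iff hTp.ne_zero hTp.not_isUnit).1
      ⟨↑U⁻¹, by rw [h2, mul_right_comm, Units.mul_inv, one_mul]⟩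
    exact ⟨c, by rw [mul_comm]; exact le_antisymm h4 h3⟩
  exact ⟨g, e, u, hu, he, heN, by rw [hfe, mul_comm], dvdAt_of_prime_pow f hinj hf0 i g hgp (hfac g hgp hgd).1
    (fun P _ hP => (prime_over_unique f hm hf N hN ψ hψ i P hP).trans (hfac g hgp hgd).2.symm) e u hu (by rw [hfe, mul_comm])⟩

include hinj hm hf htame hunit hint in
/-- A regular tame cover of a strictly henselian regular local ring is a Kummer algebra. -/
theorem exists_algEquiv_kummer :
    ∃ n : Fin r → ℕ, (∀ i, 1 ≤ n i) ∧ (∀ i, IsUnit ((n i : ℕ) : ResidueField A)) ∧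
      Nonempty (B ≃ₐ[A] SGA1.kummerAlg A f n) := by
  classical
  have hf0 := ne_zero_of_indep f hm hf
  obtain ⟨N, hN, hNu, hNd⟩ := exists_exponents_absolute f hm hf _ (tame_localization f hinj hf0 htame) hunit hint
  choose g e u hu he heN hfe hed using fun i => exists_prime_pow f hinj hm hf htame hunit hint N hN hNd i
  have heu : ∀ i, IsUnit ((e i : ℕ) : ResidueField A) := fun i => by
    obtain ⟨k, hk⟩ := heN i
    have h := hNu i
    rw [hk, Nat.cast_mul] at h
    exact isUnit_of_mul_isUnit_left h
  refine ⟨e, he, heu, ?_⟩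
  have heA : ∀ i, IsUnit ((e i : ℕ) : A) := fun i =>
    isUnit_of_map_unit (residue A) _ (by rw [map_natCast]; exact heu i)
  obtain ⟨_, _⟩ := strictHenselian_of_finite A B
  obtain ⟨ψ, hψ⟩ := exists_algHom_kummer f hinj hm hf htame hunit hint e he hed
  haveI := isRegularLocalRing A f e hm hf he
  haveI := isDomain A f e hm hf he
  haveI := RegLoc.UFD.uniqueFactorizationMonoid (SGA1.kummerAlg A f e)
  obtain ⟨_, _⟩ := finite_free A f e he
  have hmA : (maximalIdeal (SGA1.kummerAlg A f e)).comap (algebraMap A _) = maximalIdeal A :=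
    IsLocalRing.eq_maximalIdeal (Ideal.isMaximal_comap_of_isIntegral_of_isMaximal _)
  have hres : ∀ z : SGA1.kummerAlg A f e, ∃ a, z - algebraMap A _ a ∈ maximalIdeal (SGA1.kummerAlg A f e) := by
    refine induction_kummer A f e (fun a => ⟨a, by rw [sub_self]; exact zero_mem _⟩) ?_ ?_
    · rintro a b ⟨c, hc⟩ ⟨c', hc'⟩
      exact ⟨c + c', by rw [map_add, add_sub_add_comm]; exact add_mem hc hc'⟩
    · rintro a j -
      exact ⟨0, by
        rw [map_zero, sub_zero]
        exact Ideal.mul_mem_left _ _ (T_mem_maximalIdeal A f e hm hf he j)⟩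
  have hT : ∀ i, T A f e i ∈ ψ.range := by
    intro i
    obtain ⟨v, hv⟩ := exists_pow_eq_of_isUnit (B := B) (e := e i)
      (by rw [← map_natCast (algebraMap A B)]; exact (heA i).map _) (hu i)
    have hw : ψ (v * g i) ^ e i = T A f e i ^ e i := by
      rw [← map_pow, mul_pow, hv, ← hfe, T_pow, ψ.commutes]
    obtain ⟨ε, hε⟩ : T A f e i ∣ ψ (v * g i) :=
      (IsIntegrallyClosed.pow_dvd_pow_iff (Nat.one_le_iff_ne_zero.1 (he i))).1 hw.symm.dvd
    have hε1 : ε ^ e i = 1 := by
      rw [hε, mul_pow] at hw
      exact (mul_eq_left₀ (pow_ne_zero _ (T_ne_zero A f e hm hf he i))).1 hw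
    obtain ⟨a₀, ha₀⟩ := hres ε
    have hr0 : residue _ (algebraMap A (SGA1.kummerAlg A f e) a₀) = residue _ ε := by
      rw [eq_comm, ← sub_eq_zero, ← map_sub, residue_eq_zero_iff]; exact ha₀
    have ha1 : a₀ ^ e i - 1 ∈ maximalIdeal A := by
      rw [← hmA, Ideal.mem_comap, ← residue_eq_zero_iff, map_sub, map_pow, map_sub, map_pow, hr0, ← map_pow, hε1]
      simp only [map_one, sub_self]
    obtain ⟨a, ha, haa⟩ := exists_root_near (heA i) isUnit_one ha1
    have hr : residue _ (algebraMap A (SGA1.kummerAlg A f e) a) = residue _ ε := by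
      rw [← hr0, ← sub_eq_zero, ← map_sub, ← map_sub, residue_eq_zero_iff, ← Ideal.mem_comap, hmA]
      exact haa
    have hsum : IsUnit (∑ j ∈ Finset.range (e i), ε ^ j * algebraMap A (SGA1.kummerAlg A f e) a ^ (e i - 1 - j)) := by
      refine isUnit_of_map_unit (residue _) _ ?_
      simp only [map_sum, map_mul, map_pow, hr]
      rw [geom_sum₂_self]
      refine IsUnit.mul ?_ (IsUnit.pow _ (IsUnit.map _ (IsUnit.of_pow_eq_one hε1 (Nat.one_le_iff_ne_zero.1 (he i)))))
      rw [← map_natCast (residue (SGA1.kummerAlg A f e)), ← map_natCast (algebraMap A (SGA1.kummerAlg A f e))]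
      exact ((heA i).map _).map _
    have hεa : ε = algebraMap A _ a := by
      rw [← sub_eq_zero, ← hsum.mul_right_eq_zero, geom_sum₂_mul, hε1, ← map_pow, ha, map_one, sub_self]
    have hau : IsUnit a := IsUnit.of_pow_eq_one ha (Nat.one_le_iff_ne_zero.1 (he i))
    refine ⟨algebraMap A B ↑hau.unit⁻¹ * (v * g i), ?_⟩
    change ψ _ = _
    rw [map_mul, ψ.commutes, hε, hεa, mul_comm (T A f e i), ← mul_assoc, ← map_mul, IsUnit.val_inv_mul, map_one,
      one_mul]
  refine ⟨AlgEquiv.ofBijective ψ ⟨hψ, fun z => ?_⟩⟩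
  exact (AlgHom.mem_range ψ).1 (induction_kummer A f e (P := (· ∈ ψ.range)) (fun a => ψ.range.algebraMap_mem a)
    (fun a b ha hb => add_mem ha hb) (fun a j ha => mul_mem ha (hT j)) z)

end Groth.Agent.AbsAbh
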